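/-
The root system of type E6 and its link with the Chevalley datum.
-/
import Cfsg.Agent.Chev.RootTab
import Cfsg.Prelude.Def_ChevE6

set_option autoImplicit false

namespace Cfsg.Agent.Chev

open Cfsg.Lie

/-- encoded tables of type E6 -/
def encE6 : Enc := Enc.mk chevE6.rank chevE6.nroots
  0xa788887a788887a778887a878878a888878a
  0x9abaa99aba999aaa9999aa9989aa999aa99999a99989a9999999998999998899999999898999898899898889898888899aa99899a99889a998999998899998889998999898899898889898888898999988899988889988888988999888899888889888998888898888988888788888878888778888887888877888777888888788887788877788777788888878887878877878777878887778877778777778876778776778766778888887888787887787877787777787887777877777777777876777776777766777876677776677766677765677765667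
  0x9abaa99aba999aaa9999aa9989aa999aa99999a99989a9999999998999998899999999898999898899898889898888899aa99899a99889a998999998899998889998999898899898889898888898999988899988889988888988999888899888889888998888898888988888788888878888778888887888877888777888888788887788877788777788888878887878877878777878887778877778777778876778776778766778888887888787887787877787777787887777877777777777876777776777766777876677776677766677765677765667
  0x47464543444240413e3f3d3b3c3a393837353633343230312f2e2c2d2b2a282927252623242122201e1f1d1c1a1b191816171513141112100f0e0d0b0c0a0809060705030402010047464445434142403f3d3e3c3a3b3938363735343233312f302e2d2b2c2a2927282422262125231f201e1d1b1c1a191718161415131210110f0e0c0d0b090a0807050604020301004745464443423f3e41403d3c3b393a3837343336353231302e2f2d2c2a2b262520292824231f1e2722211c1d1b1a181917161512111413100f0d0e0c0b0a0706090805040301020047464241404544433f3e3d3c3b3a383937363531302f3433322e2928271d2d2c2b2625242322211c1b1a2a201f1e191514131817161211100e0f0d0c0b0a0908040302070605010046474544434241403c3b3a3f3e3d39383736352d2c2b292827193433322a31302f2625242322211817161d1514132e201f1e1c1b1a1211100f0e0a09080d0c0b070605040302000147464544433736353433322d2c2b2a0f4241403f3e3d31302f2e3c3b3a39292827262524232221201f1e0e0d0c0b191817160a0908070605381d1c1b1a1514131211100403020100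
  0x2425272a2e38

theorem encE6_ok : encE6.OK :=
  ⟨by decide +kernel, by decide +kernel, by decide +kernel, by decide +kernel⟩

/-- the Coxeter matrix of type E6 -/
def coxE6 : CoxeterMatrix (Fin chevE6.rank) := CoxeterMatrix.E₆

theorem encE6_compat : Compat coxE6 fun i j => encE6.A i j :=
  compat_of_compatB (by decide +kernel)

/-- the root system of type E6 -/
def rsE6 : RootSys (Fin chevE6.rank) (Fin chevE6.nroots) := encE6.rootSys encE6_ok coxE6 encE6_compat

theorem encE6_linkOK : encE6.LinkOK chevE6 :=
  ⟨rfl, rfl, by decide +kernel, by decide +kernel, by decide +kernel, by decide +kernel, by decide +kernel,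
    by decide +kernel⟩

theorem linkE6 : Link chevE6 rsE6 := link_of_ok chevE6 _ _ _ _ _ encE6_ok coxE6 encE6_compat encE6_linkOK

end Cfsg.Agent.Chev
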