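/-
The diagram symmetries of the tables of types E6, D4, B2, F4, G2, and the verification of the compatibility
with the commutator formula.
-/
import Cfsg.Agent.Chev.AutChk

set_option autoImplicit false
set_option maxRecDepth 100000

namespace Cfsg.Agent.Chev

open Cfsg.Lie

/-- a sign read from a bit table -/
def sgnT (T r : ℕ) : ℤ := Bool.rec 1 (-1) (Nat.beq (Nat.mod (Nat.shiftRight T r) 2) 1)
/-- an exponent read from a bit table -/
def expT (p T r : ℕ) : ℕ := Bool.rec 1 p (Nat.beq (Nat.mod (Nat.shiftRight T r) 2) 1)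

theorem twOK_of {D : ChevalleyDatum} (T : Tab D) {m n : ℕ} {ρ ρ' : ℕ → ℕ} {γ : ℕ → ℤ} {q : ℕ → ℕ}
    {N : ℕ → ℕ → ℤ} {P : ℕ → ℕ → ℕ} (hn : D.nroots = n) (hN : T.N = N) (hP : T.P = P)
    (h1 : allLt n (rootB n ρ ρ' γ q) = true)
    (h2 : allLt n (fun r => allLt n (pairB n m N P ρ γ q r)) = true) : TwOK T m ρ ρ' γ q := by
  subst hn hN hP
  exact ⟨allLt_spec h1, fun r hr => allLt_spec (allLt_spec h2 r hr)⟩

/-- the symmetry on the roots -/
def rhoE6 : ℕ → ℕ := dec8 0x47464542374441363f34313c2d2926244340353e33303d322f2e3b2c28253a2b27392a380f1d0e201c0d221f1b0c1918150a17140912070423211e1a0b1613081106031005020100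
/-- its inverse -/
def rhiE6 : ℕ → ℕ := dec8 0x47464542374441363f34313c2d2926244340353e33303d322f2e3b2c28253a2b27392a380f1d0e201c0d221f1b0c1918150a17140912070423211e1a0b1613081106031005020100
/-- the signs -/
def gamE6 : ℕ → ℤ := sgnT 0x96ad22942944b5690
/-- the exponents -/
def exqE6 : ℕ → ℕ := expT 1 0x0

theorem twOKE6 : TwOK tabE6 0 rhoE6 rhiE6 gamE6 exqE6 :=
  twOK_of (n := 72) (N := fN rowsE6) (P := fP rowsE6) tabE6 rfl rfl rfl (by decide +kernel)
    (by decide +kernel)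

/-- the symmetry on the roots -/
def rhoD4 : ℕ → ℕ := dec8 0x17161115100d140f130e0c12050b090408030a0702060100
/-- its inverse -/
def rhiD4 : ℕ → ℕ := dec8 0x171614110f0c1513100e120d0a05090704020b0806030100
/-- the signs -/
def gamD4 : ℕ → ℤ := sgnT 0x2a8154
/-- the exponents -/
def exqD4 : ℕ → ℕ := expT 1 0x0

theorem twOKD4 : TwOK tabD4 0 rhoD4 rhiD4 gamD4 exqD4 :=
  twOK_of (n := 24) (N := fN rowsD4) (P := fP rowsD4) tabD4 rfl rfl rfl (by decide +kernel)
    (by decide +kernel)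

/-- the symmetry on the roots -/
def rhoD4b : ℕ → ℕ := dec8 0x171614110f0c1513100e120d0a05090704020b0806030100
/-- its inverse -/
def rhiD4b : ℕ → ℕ := dec8 0x17161115100d140f130e0c12050b090408030a0702060100
/-- the signs -/
def gamD4b : ℕ → ℤ := sgnT 0x1b00d8
/-- the exponents -/
def exqD4b : ℕ → ℕ := expT 1 0x0

theorem twOKD4b : TwOK tabD4 0 rhoD4b rhiD4b gamD4b exqD4b :=
  twOK_of (n := 24) (N := fN rowsD4) (P := fP rowsD4) tabD4 rfl rfl rfl (by decide +kernel)
    (by decide +kernel)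

/-- the symmetry on the roots -/
def rhoB2 : ℕ → ℕ := dec8 0x607040502030001
/-- its inverse -/
def rhiB2 : ℕ → ℕ := dec8 0x607040502030001
/-- the signs -/
def gamB2 : ℕ → ℤ := sgnT 0x0
/-- the exponents -/
def exqB2 : ℕ → ℕ := expT 2 0x66

theorem twOKB2 : TwOK tabB2 2 rhoB2 rhiB2 gamB2 exqB2 :=
  twOK_of (n := 8) (N := fN rowsB2) (P := fP rowsB2) tabB2 rfl rfl rfl (by decide +kernel)
    (by decide +kernel)

/-- the symmetry on the roots -/
def rhoF4 : ℕ → ℕ := dec8 0x2c28272f26241d2e2d2b202a1f1a1825231c291e19221b210e140d161106130c0a171510050f040201120b0900080703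
/-- its inverse -/
def rhiF4 : ℕ → ℕ := dec8 0x2c28272f26241d2e2d2b202a1f1a1825231c291e19221b210e140d161106130c0a171510050f040201120b0900080703
/-- the signs -/
def gamF4 : ℕ → ℤ := sgnT 0x0
/-- the exponents -/
def exqF4 : ℕ → ℕ := expT 2 0x11fe381c7f88

theorem twOKF4 : TwOK tabF4 2 rhoF4 rhiF4 gamF4 exqF4 :=
  twOK_of (n := 48) (N := fN rowsF4) (P := fP rowsF4) tabF4 rfl rfl rfl (by decide +kernel)
    (by decide +kernel)

/-- the symmetry on the roots -/
def rhoG2 : ℕ → ℕ := dec8 0x9080b0a0607040501000302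
/-- its inverse -/
def rhiG2 : ℕ → ℕ := dec8 0x9080b0a0607040501000302
/-- the signs -/
def gamG2 : ℕ → ℤ := sgnT 0x0
/-- the exponents -/
def exqG2 : ℕ → ℕ := expT 3 0x39c

theorem twOKG2 : TwOK tabG2 3 rhoG2 rhiG2 gamG2 exqG2 :=
  twOK_of (n := 12) (N := fN rowsG2) (P := fP rowsG2) tabG2 rfl rfl rfl (by decide +kernel)
    (by decide +kernel)

end Cfsg.Agent.Chev
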