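/-
Exponentials of nilpotent elements: conjugation, the adjoint formula, and the
Baker-Campbell-Hausdorff formula in nilpotency class two.
-/
import Mathlib

set_option autoImplicit false

namespace Cfsg.Agent.Chev
open IsNilpotent Polynomial Finset

variable {A : Type*} [Ring A] [Algebra ℚ A]

theorem exp_semiconj {x a b : A} (ha : IsNilpotent a) (hb : IsNilpotent b) (h : x * a = b * x) :
    x * exp a = exp b * x := by
  obtain ⟨k, hk⟩ := ha
  obtain ⟨l, hl⟩ := hb
  have hk' : a ^ (max k l) = 0 := pow_eq_zero_of_le (le_max_left _ _) hk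
  have hl' : b ^ (max k l) = 0 := pow_eq_zero_of_le (le_max_right _ _) hl
  rw [exp_eq_sum hk', exp_eq_sum hl', Finset.mul_sum, Finset.sum_mul]
  refine Finset.sum_congr rfl fun i _ => ?_
  have : x * a ^ i = b ^ i * x := (SemiconjBy.pow_right h i)
  rw [mul_smul_comm, smul_mul_assoc, this]

theorem commute_exp_right {x a : A} (ha : IsNilpotent a) (h : Commute x a) : Commute x (exp a) :=
  exp_semiconj ha ha h

theorem commute_exp_exp {a b : A} (ha : IsNilpotent a) (hb : IsNilpotent b) (h : Commute a b) :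
    Commute (exp a) (exp b) :=
  commute_exp_right hb (commute_exp_right ha h.symm).symm

theorem isNilpotent_ad {e : A} (he : IsNilpotent e) :
    IsNilpotent (LinearMap.mulLeft ℚ e + LinearMap.mulRight ℚ (-e) : Module.End ℚ A) :=
  Commute.isNilpotent_add (LinearMap.commute_mulLeft_right e (-e))
    ((LinearMap.isNilpotent_mulLeft_iff ℚ e).2 he)
    ((LinearMap.isNilpotent_mulRight_iff ℚ (-e)).2 he.neg)

theorem exp_ad_apply {e : A} (he : IsNilpotent e) (a : A) :
    exp (LinearMap.mulLeft ℚ e + LinearMap.mulRight ℚ (-e) : Module.End ℚ A) a =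
      exp e * a * exp (-e) := by
  rw [exp_add_of_commute (LinearMap.commute_mulLeft_right e (-e))
    ((LinearMap.isNilpotent_mulLeft_iff ℚ e).2 he)
    ((LinearMap.isNilpotent_mulRight_iff ℚ (-e)).2 he.neg)]
  obtain ⟨k, hk⟩ := he
  have hk' : (-e) ^ k = 0 := by rw [neg_pow, hk, mul_zero]
  have h1 : (LinearMap.mulLeft ℚ e : Module.End ℚ A) ^ k = 0 := by
    rw [LinearMap.pow_mulLeft, hk, LinearMap.mulLeft_zero_eq_zero]
  have h2 : (LinearMap.mulRight ℚ (-e) : Module.End ℚ A) ^ k = 0 := by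
    rw [LinearMap.pow_mulRight, hk', LinearMap.mulRight_zero_eq_zero]
  rw [exp_eq_sum h1, exp_eq_sum h2, exp_eq_sum hk, exp_eq_sum hk', Module.End.mul_apply]
  simp only [LinearMap.sum_apply, LinearMap.smul_apply, LinearMap.pow_mulLeft,
    LinearMap.pow_mulRight, LinearMap.mulLeft_apply, LinearMap.mulRight_apply, Finset.mul_sum,
    Finset.sum_mul, mul_smul_comm, smul_mul_assoc, mul_assoc, map_sum, map_smul]

/-- The adjoint formula. -/
theorem exp_mul_rep {V : Type*} [AddCommGroup V] [Module ℚ V] (ρ : V →ₗ[ℚ] A) {e : A}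
    (he : IsNilpotent e) {E : Module.End ℚ V} (hE : IsNilpotent E)
    (h : ∀ v, e * ρ v - ρ v * e = ρ (E v)) (v : V) :
    exp e * ρ v = ρ (exp E v) * exp e := by
  have h1 := Module.End.commute_exp_left_of_commute (g := ρ) hE (isNilpotent_ad he)
    (by ext v; simp [← h v, sub_eq_add_neg])
  have h2 := LinearMap.congr_fun h1 v
  rw [LinearMap.comp_apply, LinearMap.comp_apply, exp_ad_apply he] at h2
  rw [← h2, mul_assoc, exp_neg_mul_exp_self he, mul_one]

theorem exp_mul_class_two {p q d : A} (hp : IsNilpotent p) (h : p * q - q * p = d)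
    (hd : Commute p d) : exp p * q = (q + d) * exp p := by
  have h1 := exp_ad_apply hp q
  have h2 : ((LinearMap.mulLeft ℚ p + LinearMap.mulRight ℚ (-p) : Module.End ℚ A) ^ 2) • q = 0 := by
    have : p * q + -(q * p) = d := by rw [← h, sub_eq_add_neg]
    simp [pow_two, this, hd.eq]
  have h3 := exp_smul_eq_sum h2 (isNilpotent_ad hp)
  have h4 : p * q + -(q * p) = d := by rw [← h, sub_eq_add_neg]
  simp [Finset.sum_range_succ, h4] at h3
  rw [← h3, h1, mul_assoc, exp_neg_mul_exp_self hp, mul_one]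

theorem derivative_pow_succ_of_commute {p : A[X]} (h : Commute p (derivative p)) (n : ℕ) :
    derivative (p ^ (n + 1)) = ((n + 1 : ℕ) : ℚ) • (derivative p * p ^ n) := by
  induction n with
  | zero => simp
  | succ n ih =>
    rw [_root_.pow_succ, derivative_mul, ih, smul_mul_assoc, mul_assoc, ← _root_.pow_succ,
      (h.pow_left (n + 1)).eq]
    push_cast
    rw [add_smul (n + 1 : ℚ) 1, one_smul]

theorem derivative_exp {p : A[X]} (hp : IsNilpotent p) (h : Commute p (derivative p)) :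
    derivative (exp p) = derivative p * exp p := by
  obtain ⟨k, hk⟩ := hp
  have hk' : p ^ (k + 1) = 0 := by rw [_root_.pow_succ, hk, zero_mul]
  conv_lhs => rw [exp_eq_sum hk', Finset.sum_range_succ']
  rw [exp_eq_sum hk, map_add, map_sum, Finset.mul_sum]
  simp only [Nat.factorial_zero, Nat.cast_one, inv_one, pow_zero, one_smul, derivative_one,
    add_zero]
  refine Finset.sum_congr rfl fun i _ => ?_
  rw [derivative_smul, derivative_pow_succ_of_commute h, smul_smul, mul_smul_comm,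
    Nat.factorial_succ]
  congr 1
  have : ((i + 1 : ℕ) : ℚ) ≠ 0 := by positivity
  push_cast at this ⊢
  field_simp

theorem coeff_of_ode {F : A[X]} {z : A} (h : derivative F = C z * F) (h0 : F.coeff 0 = 1) (n : ℕ) :
    F.coeff n = (n.factorial : ℚ)⁻¹ • z ^ n := by
  induction n with
  | zero => simp [h0]
  | succ n ih =>
    have h1 := congrArg (fun G => G.coeff n) h
    simp only [coeff_derivative, coeff_C_mul, ih] at h1
    have h2 : F.coeff (n + 1) * ((n : A) + 1) = ((n + 1 : ℕ) : ℚ) • F.coeff (n + 1) := by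
      rw [Nat.cast_smul_eq_nsmul, nsmul_eq_mul', Nat.cast_succ]
    have h3 : ((n + 1 : ℕ) : ℚ) ≠ 0 := by positivity
    rw [h2, mul_smul_comm, ← pow_succ'] at h1
    rw [← inv_smul_smul₀ h3 (F.coeff (n + 1)), h1, smul_smul, Nat.factorial_succ]
    congr 1
    push_cast
    rw [mul_inv]

theorem exp_of_ode {F : A[X]} {z : A} (h : derivative F = C z * F) (h0 : F.coeff 0 = 1) :
    IsNilpotent z ∧ F.eval 1 = exp z := by
  have h1 : z ^ (F.natDegree + 1) = 0 := by
    have h2 := coeff_of_ode h h0 (F.natDegree + 1)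
    rw [coeff_eq_zero_of_natDegree_lt (Nat.lt_succ_self _)] at h2
    have h3 : (((F.natDegree + 1).factorial : ℚ))⁻¹ ≠ 0 := by positivity
    rw [← inv_smul_smul₀ h3 (z ^ (F.natDegree + 1)), ← h2, smul_zero]
  refine ⟨⟨_, h1⟩, ?_⟩
  rw [exp_eq_sum h1, eval_eq_sum_range]
  refine Finset.sum_congr rfl fun i _ => ?_
  rw [coeff_of_ode h h0, one_pow, mul_one]

/-- Baker-Campbell-Hausdorff in class two. -/
theorem bch_two {x y c : A} (hx : IsNilpotent x) (hy : IsNilpotent y) (hc : IsNilpotent c)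
    (h : x * y - y * x = c) (hcx : Commute c x) (hcy : Commute c y) :
    IsNilpotent (x + y) ∧ exp (x + y) = exp x * exp y * exp ((-(1 / 2) : ℚ) • c) := by
  set d : A := (-(1 / 2) : ℚ) • c with hd
  have hdn : IsNilpotent d := hc.smul _
  have nil : ∀ {a : A} (m : ℕ), IsNilpotent a → IsNilpotent (C a * X ^ m : A[X]) := by
    intro a m ha
    exact Commute.isNilpotent_mul_right (commute_X_pow _ _).symm (ha.map (C : A →+* A[X]))
  have cC : ∀ {a b : A} (m n : ℕ), Commute a b → Commute (C a * X ^ m : A[X]) (C b * X ^ n) := by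
    intro a b m n hab
    exact Commute.mul_left (Commute.mul_right (hab.map (C : A →+* A[X])) (commute_X_pow _ _).symm)
      (commute_X_pow _ _)
  have dx : ∀ {a : A}, IsNilpotent a →
      derivative (exp (C a * X ^ 1 : A[X])) = C a * exp (C a * X ^ 1 : A[X]) := by
    intro a ha
    have e : derivative (C a * X ^ 1 : A[X]) = C a * X ^ 0 := by simp
    rw [derivative_exp (nil 1 ha) (by rw [e]; exact cC 1 0 (Commute.refl a)), e]
    simp
  have dd : derivative (exp (C d * X ^ 2 : A[X])) = C (-c) * X ^ 1 * exp (C d * X ^ 2 : A[X]) := by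
    have e : derivative (C d * X ^ 2 : A[X]) = C (-c) * X ^ 1 := by
      rw [derivative_C_mul_X_sq, pow_one]
      congr 2
      rw [hd, smul_mul_assoc, mul_two, ← two_smul ℚ c, smul_smul]
      norm_num
    rw [derivative_exp (nil 2 hdn) (by
      rw [e]; exact cC 2 1 ((Commute.refl c).neg_right.smul_left _)), e]
  set F : A[X] := exp (C x * X ^ 1) * exp (C y * X ^ 1) * exp (C d * X ^ 2) with hF
  have e1 : exp (C x * X ^ 1 : A[X]) * C y = (C y + C c * X ^ 1) * exp (C x * X ^ 1 : A[X]) := by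
    refine exp_mul_class_two (nil 1 hx) ?_ (cC 1 1 hcx.symm)
    rw [← h, map_sub, map_mul, map_mul, sub_mul, mul_assoc, (commute_X_pow (C y) 1).eq]
    simp only [mul_assoc]
  have e2 : Commute (C (-c) * X ^ 1 : A[X]) (exp (C x * X ^ 1) * exp (C y * X ^ 1)) :=
    Commute.mul_right (commute_exp_right (nil 1 hx) (cC 1 1 hcx.neg_left))
      (commute_exp_right (nil 1 hy) (cC 1 1 hcy.neg_left))
  have hode : derivative F = C (x + y) * F := by
    rw [hF, derivative_mul, derivative_mul, dx hx, dx hy, dd, ← mul_assoc (exp (C x * X ^ 1)) (C y),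
      e1, ← mul_assoc (exp (C x * X ^ 1) * exp (C y * X ^ 1)), ← e2.eq, map_neg, map_add]
    noncomm_ring
  let ev1 : A[X] →+* A := eval₂RingHom' (RingHom.id A) 1 (fun a => Commute.one_right a)
  let ev0 : A[X] →+* A := eval₂RingHom' (RingHom.id A) 0 (fun a => Commute.zero_right a)
  have hev1 : ∀ p, ev1 p = p.eval 1 := fun p => rfl
  have hev0 : ∀ p, ev0 p = p.eval 0 := fun p => rfl
  have h0 : F.coeff 0 = 1 := by
    rw [coeff_zero_eq_eval_zero, ← hev0, hF, map_mul, map_mul, map_exp (nil 1 hx),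
      map_exp (nil 1 hy), map_exp (nil 2 hdn)]
    simp [hev0]
  obtain ⟨h1, h2⟩ := exp_of_ode hode h0
  refine ⟨h1, ?_⟩
  rw [← h2, ← hev1, hF, map_mul, map_mul, map_exp (nil 1 hx), map_exp (nil 1 hy),
    map_exp (nil 2 hdn)]
  simp [hev1]

theorem exp_smul_add {c : A} (hc : IsNilpotent c) (a b : ℚ) :
    exp (a • c) * exp (b • c) = exp ((a + b) • c) := by
  rw [add_smul, exp_add_of_commute (((Commute.refl c).smul_left a).smul_right b) (hc.smul a)
    (hc.smul b)]

/-- Four elements generating a nilpotent algebra of class two. The brackets are given as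
elements `c0 c1 c2` that are central. -/
theorem exp_four {y0 y1 y2 y3 c0 c1 c2 : A} (n0 : IsNilpotent y0) (n1 : IsNilpotent y1)
    (n2 : IsNilpotent y2) (n3 : IsNilpotent y3) (m0 : IsNilpotent c0) (m1 : IsNilpotent c1)
    (m2 : IsNilpotent c2)
    (h0 : y0 * (y1 + (y2 + y3)) - (y1 + (y2 + y3)) * y0 = c0)
    (h1 : y1 * (y2 + y3) - (y2 + y3) * y1 = c1) (h2 : y2 * y3 - y3 * y2 = c2)
    (k00 : Commute c0 y0) (k01 : Commute c0 y1) (k02 : Commute c0 y2) (k03 : Commute c0 y3)
    (k11 : Commute c1 y1) (k12 : Commute c1 y2) (k13 : Commute c1 y3)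
    (k22 : Commute c2 y2) (k23 : Commute c2 y3) :
    IsNilpotent (y0 + (y1 + (y2 + y3))) ∧
    exp (y0 + (y1 + (y2 + y3))) = exp y0 * (exp y1 * (exp y2 * exp y3 * exp ((-(1 / 2) : ℚ) • c2)) *
      exp ((-(1 / 2) : ℚ) • c1)) * exp ((-(1 / 2) : ℚ) • c0) ∧
    exp (y0 + (y1 + (y2 + y3))) = (exp y1 * (exp y2 * exp y3 * exp ((-(1 / 2) : ℚ) • c2)) *
      exp ((-(1 / 2) : ℚ) • c1)) * exp y0 * exp ((-(1 / 2) : ℚ) • (-c0)) := by
  obtain ⟨a2, b2⟩ := bch_two n2 n3 m2 h2 k22 k23
  obtain ⟨a1, b1⟩ := bch_two n1 a2 m1 h1 k11 (k12.add_right k13)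
  obtain ⟨a0, b0⟩ := bch_two n0 a1 m0 h0 k00 (k01.add_right (k02.add_right k03))
  obtain ⟨-, b0'⟩ := bch_two a1 n0 m0.neg (by rw [← h0, neg_sub])
    (k01.add_right (k02.add_right k03)).neg_left k00.neg_left
  refine ⟨a0, by rw [b0, b1, b2], ?_⟩
  rw [add_comm y0, b0', b1, b2]

end Cfsg.Agent.Chev
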