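/-
First consequences of `Tab D`: negation, weights, the sum map; basis vectors of the adjoint module.
-/
import Cfsg.Agent.Chev.LieDefs

set_option autoImplicit false

namespace Cfsg.Agent.Chev
open Cfsg.Lie Matrix

namespace Tab
variable {D : ChevalleyDatum} (T : Tab D)
include T

theorem neg_eq' {r : ℕ} (hr : r < D.nroots) : D.neg r = D.nroots - 1 - r := by
  have := T.neg_eq r hr; omega

theorem neg_lt {r : ℕ} (hr : r < D.nroots) : D.neg r < D.nroots := by
  have := T.neg_eq r hr; omega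

theorem neg_neg {r : ℕ} (hr : r < D.nroots) : D.neg (D.neg r) = r := by
  have := T.neg_eq r hr; have := T.neg_eq _ (T.neg_lt hr); omega

theorem eq_neg_iff {r s : ℕ} (hr : r < D.nroots) : s = D.neg r ↔ r + s + 1 = D.nroots := by
  have := T.neg_eq r hr; omega

theorem cor_neg {r i : ℕ} (hr : r < D.nroots) (hi : i < D.rank) :
    cor D (D.neg r) i = -cor D r i := by rw [T.neg_eq' hr, T.cor_neg' r hr i hi]

theorem cartan_neg {r i : ℕ} (hr : r < D.nroots) (hi : i < D.rank) :
    D.cartan i (D.neg r) = -D.cartan i r := by rw [T.neg_eq' hr, T.cartan_neg' r hr i hi]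

/-- the order functional -/
def ord (r : ℕ) : ℤ := ∑ i ∈ Finset.range D.rank, T.lam i * D.cartan i r

theorem ord_lt {r s : ℕ} (hrs : r < s) (hs : s < D.nroots) : T.ord r < T.ord s := by
  induction s with
  | zero => omega
  | succ s ih =>
    have h := T.ord_mono s hs
    rcases Nat.lt_succ_iff_lt_or_eq.1 hrs with h1 | h1
    · exact (ih h1 (by omega)).trans h
    · rw [h1]; exact h

theorem wt_inj {r s : ℕ} (hr : r < D.nroots) (hs : s < D.nroots)
    (h : ∀ i < D.rank, D.cartan i r = D.cartan i s) : r = s := by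
  have e : T.ord r = T.ord s :=
    Finset.sum_congr rfl fun i hi => by rw [h i (Finset.mem_range.1 hi)]
  rcases lt_trichotomy r s with h1 | h1 | h1
  · exact absurd e (T.ord_lt h1 hs).ne
  · exact h1
  · exact absurd e (T.ord_lt h1 hr).ne'

theorem wt_ne_zero {r : ℕ} (hr : r < D.nroots) : ¬ ∀ i < D.rank, D.cartan i r = 0 := by
  intro h
  have h2 := T.pair_self r hr
  rw [pairing_eq_sum, Finset.sum_eq_zero fun i hi => by
    rw [h i (Finset.mem_range.1 hi), mul_zero]] at h2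
  exact absurd h2 (by norm_num)

theorem neg_ne {r : ℕ} (hr : r < D.nroots) : D.neg r ≠ r := by
  intro h
  apply T.wt_ne_zero hr
  intro i hi
  have := T.cartan_neg hr hi
  rw [h] at this
  omega

theorem self_ne {r : ℕ} (hr : r < D.nroots) : r + r + 1 ≠ D.nroots := by
  intro h; exact T.neg_ne hr ((T.eq_neg_iff hr).2 h).symm

theorem P_lt {r s : ℕ} (hr : r < D.nroots) (hs : s < D.nroots) (h : T.N r s ≠ 0) :
    T.P r s < D.nroots := (T.entry r hr s hs h).1

theorem P_ne_neg {r s : ℕ} (hr : r < D.nroots) (hs : s < D.nroots) (h : T.N r s ≠ 0) :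
    r + T.P r s + 1 ≠ D.nroots := (T.entry r hr s hs h).2.1

theorem N_self {r : ℕ} (hr : r < D.nroots) : T.N r r = 0 := by
  by_contra h; exact (T.entry r hr r hr h).2.2.1 rfl

theorem N_of_neg {r s : ℕ} (hr : r < D.nroots) (hs : s < D.nroots) (h : r + s + 1 = D.nroots) :
    T.N r s = 0 := by
  by_contra h'; exact (T.entry r hr s hs h').2.2.2.1 h

theorem N_anti {r s : ℕ} (hr : r < D.nroots) (hs : s < D.nroots) : T.N s r = -T.N r s := by
  by_cases h : T.N r s = 0
  · by_contra h'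
    have h1 : T.N s r ≠ 0 := by rw [h] at h'; simpa using h'
    have := (T.entry s hs r hr h1).2.2.2.2.1
    omega
  · exact (T.entry r hr s hs h).2.2.2.2.1

theorem P_comm {r s : ℕ} (hr : r < D.nroots) (hs : s < D.nroots) (h : T.N r s ≠ 0) :
    T.P s r = T.P r s := (T.entry r hr s hs h).2.2.2.2.2.1

theorem N_neg_neg {r s : ℕ} (hr : r < D.nroots) (hs : s < D.nroots) :
    T.N (D.neg r) (D.neg s) = -T.N r s := by
  by_cases h : T.N r s = 0
  · by_contra h'
    have h1 : T.N (D.neg r) (D.neg s) ≠ 0 := by rw [h] at h'; simpa using h'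
    have := (T.entry _ (T.neg_lt hr) _ (T.neg_lt hs) h1).2.2.2.2.2.2.1
    rw [← T.neg_eq' (T.neg_lt hr), ← T.neg_eq' (T.neg_lt hs), T.neg_neg hr, T.neg_neg hs] at this
    omega
  · rw [T.neg_eq' hr, T.neg_eq' hs]
    exact (T.entry r hr s hs h).2.2.2.2.2.2.1

theorem P_neg_neg {r s : ℕ} (hr : r < D.nroots) (hs : s < D.nroots) (h : T.N r s ≠ 0) :
    T.P (D.neg r) (D.neg s) = D.neg (T.P r s) := by
  have h1 : T.N (D.neg r) (D.neg s) ≠ 0 := by rw [T.N_neg_neg hr hs]; simpa using h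
  refine T.wt_inj (T.P_lt (T.neg_lt hr) (T.neg_lt hs) h1) (T.neg_lt (T.P_lt hr hs h)) ?_
  intro i hi
  rw [T.cartan_P _ (T.neg_lt hr) _ (T.neg_lt hs) h1 i hi, T.cartan_neg (T.P_lt hr hs h) hi,
    T.cartan_P r hr s hs h i hi, T.cartan_neg hr hi, T.cartan_neg hs hi]
  ring

theorem two_M2 {r s : ℕ} (hr : r < D.nroots) (hs : s < D.nroots) :
    2 * M2 T.N T.P r s = T.N r s * T.N r (T.P r s) := by
  by_cases h : T.N r s = 0
  · simp [M2, h]
  by_cases h1 : T.N r (T.P r s) = 0
  · simp [M2, h1]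
  exact ((T.entry r hr s hs h).2.2.2.2.2.2.2.1 h1).1

theorem three_M3 {r s : ℕ} (hr : r < D.nroots) (hs : s < D.nroots) :
    3 * M3 T.N T.P r s = M2 T.N T.P r s * T.N r (T.P r (T.P r s)) := by
  by_cases h : T.N r s = 0
  · simp [M2, M3, h]
  by_cases h1 : T.N r (T.P r s) = 0
  · simp [M2, M3, h1]
  by_cases h2 : T.N r (T.P r (T.P r s)) = 0
  · simp [M3, h2]
  exact (((T.entry r hr s hs h).2.2.2.2.2.2.2.1 h1).2 h2).1

theorem M3_end {r s : ℕ} (hr : r < D.nroots) (hs : s < D.nroots) :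
    M3 T.N T.P r s * T.N r (T.P r (T.P r (T.P r s))) = 0 := by
  by_cases h : T.N r s = 0
  · simp [M3, h]
  by_cases h1 : T.N r (T.P r s) = 0
  · simp [M3, h1]
  by_cases h2 : T.N r (T.P r (T.P r s)) = 0
  · simp [M3, h2]
  rw [(((T.entry r hr s hs h).2.2.2.2.2.2.2.1 h1).2 h2).2, mul_zero]

theorem M2_ne {r s : ℕ} (h : M2 T.N T.P r s ≠ 0) : T.N r s ≠ 0 ∧ T.N r (T.P r s) ≠ 0 := by
  constructor <;> intro h1 <;> simp [M2, h1] at h

theorem M3_ne {r s : ℕ} (h : M3 T.N T.P r s ≠ 0) :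
    T.N r s ≠ 0 ∧ T.N r (T.P r s) ≠ 0 ∧ T.N r (T.P r (T.P r s)) ≠ 0 := by
  refine ⟨?_, ?_, ?_⟩ <;> intro h1 <;> simp [M3, h1] at h

theorem pairOK {r s : ℕ} (hr : r < D.nroots) (hs : s < D.nroots) (h : T.N r s ≠ 0) :
    PairOK D.nroots T.N T.P r s := (T.entry r hr s hs h).2.2.2.2.2.2.2.2

theorem chainEntry_eq {r s : ℕ} (hr : r < D.nroots) (hs : s < D.nroots) :
    D.chainEntry r s = mkEntry T.N T.P r s := chainEntry_eq_of (T.chain_eq r hr) hs

theorem pairing_simple {i s : ℕ} (hi : i < D.rank) : D.pairing (D.simple i) s = D.cartan i s := by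
  rw [pairing_eq_sum, Finset.sum_eq_single i]
  · rw [T.cor_simple i hi i hi, if_pos rfl, one_mul]
  · intro j hj hji
    rw [T.cor_simple i hi j (Finset.mem_range.1 hj), if_neg hji, zero_mul]
  · intro h; exact absurd (Finset.mem_range.2 hi) h

theorem pairing_neg_right {r s : ℕ} (hs : s < D.nroots) :
    D.pairing r (D.neg s) = -D.pairing r s := by
  rw [pairing_eq_sum, pairing_eq_sum, ← Finset.sum_neg_distrib]
  exact Finset.sum_congr rfl fun i hi => by rw [T.cartan_neg hs (Finset.mem_range.1 hi)]; ring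

theorem pairing_neg_left {r s : ℕ} (hr : r < D.nroots) :
    D.pairing (D.neg r) s = -D.pairing r s := by
  rw [pairing_eq_sum, pairing_eq_sum, ← Finset.sum_neg_distrib]
  exact Finset.sum_congr rfl fun i hi => by rw [T.cor_neg hr (Finset.mem_range.1 hi)]; ring

theorem pairing_P {a r s : ℕ} (hr : r < D.nroots) (hs : s < D.nroots) (h : T.N r s ≠ 0) :
    D.pairing a (T.P r s) = D.pairing a r + D.pairing a s := by
  rw [pairing_eq_sum, pairing_eq_sum, pairing_eq_sum, ← Finset.sum_add_distrib]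
  exact Finset.sum_congr rfl fun i hi => by
    rw [T.cartan_P r hr s hs h i (Finset.mem_range.1 hi)]; ring

end Tab

section Vec
variable {D : ChevalleyDatum} {R : Type*} [CommRing R]

/-- the basis vector `h_{p_i}` -/
def bh (D : ChevalleyDatum) (R : Type*) [Zero R] [One R] (i : Fin D.rank) : D.Idx → R :=
  Pi.single (Sum.inl i) 1

theorem ev_eq_single {k : ℕ} (hk : k < D.nroots) :
    ev D R k = Pi.single (Sum.inr ⟨k, hk⟩ : D.Idx) 1 := by
  funext a
  rcases a with i | u
  · simp [ev]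
  · simp [ev, Pi.single_apply, Fin.ext_iff]

theorem mulVec_ev {J : Type*} (M : Matrix J D.Idx R) {k : ℕ} (hk : k < D.nroots) :
    M *ᵥ ev D R k = fun a => M a (Sum.inr ⟨k, hk⟩) := by
  rw [ev_eq_single hk]; funext a; simp

theorem mulVec_bh {J : Type*} (M : Matrix J D.Idx R) (i : Fin D.rank) :
    M *ᵥ bh D R i = fun a => M a (Sum.inl i) := by
  funext a; simp [bh]

theorem hv_eq_sum (r : ℕ) : hv D R r = ∑ i : Fin D.rank, (cor D r i : R) • bh D R i := by
  funext a
  rcases a with i | u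
  · simp [hv, bh, Finset.sum_apply, Pi.single_apply]
  · simp [hv, bh, Finset.sum_apply]

theorem mat_ext {J : Type*} {A B : Matrix J D.Idx R} (h1 : ∀ i, A *ᵥ bh D R i = B *ᵥ bh D R i)
    (h2 : ∀ r < D.nroots, A *ᵥ ev D R r = B *ᵥ ev D R r) : A = B := by
  ext a b
  rcases b with i | u
  · have := congrFun (h1 i) a
    rwa [mulVec_bh, mulVec_bh] at this
  · have := congrFun (h2 u u.2) a
    rwa [mulVec_ev _ u.2, mulVec_ev _ u.2] at this

theorem vec_eq_sum (v : D.Idx → R) :
    v = ∑ i, v (Sum.inl i) • bh D R i + ∑ u : Fin D.nroots, v (Sum.inr u) • ev D R u := by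
  funext a
  rcases a with i | u
  · simp [ev, bh, Finset.sum_apply, Pi.single_apply]
  · simp [ev, bh, Finset.sum_apply, Fin.ext_iff, ← Fin.ext_iff]

theorem vec_ind {p : (D.Idx → R) → Prop} (h0 : p 0) (hadd : ∀ v w, p v → p w → p (v + w))
    (hsmul : ∀ (c : R) v, p v → p (c • v)) (hh : ∀ i, p (bh D R i))
    (he : ∀ r < D.nroots, p (ev D R r)) (v : D.Idx → R) : p v := by
  rw [vec_eq_sum v]
  refine hadd _ _ ?_ ?_
  · exact Finset.sum_induction _ p hadd h0 fun i _ => hsmul _ _ (hh i)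
  · exact Finset.sum_induction _ p hadd h0 fun u _ => hsmul _ _ (he u u.2)

theorem pairing_eq_sum_fin (D : ChevalleyDatum) (r s : ℕ) :
    D.pairing r s = ∑ i : Fin D.rank, cor D r i * D.cartan i s := by
  rw [pairing_eq_sum, Finset.sum_range]

theorem Tab.hv_neg (T : Tab D) {r : ℕ} (hr : r < D.nroots) : hv D R (D.neg r) = -hv D R r := by
  funext a
  rcases a with i | u
  · simp [hv, T.cor_neg hr i.2]
  · simp [hv]

theorem Tab.hv_simple (T : Tab D) (i : Fin D.rank) : hv D R (D.simple i) = bh D R i := by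
  funext a
  rcases a with j | u
  · simp [hv, bh, T.cor_simple i i.2 j j.2, Pi.single_apply, Fin.ext_iff]
  · simp [hv, bh]

end Vec

end Cfsg.Agent.Chev
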