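/-
The chain functions and the commutator terms of a datum, in terms of `N` and `P`.
-/
import Cfsg.Agent.Chev.LieTab

set_option autoImplicit false

namespace Cfsg.Agent.Chev
open Cfsg.Lie

namespace Tab
variable {D : ChevalleyDatum} (T : Tab D) {r s : ℕ}

theorem chainRoot_one (hr : r < D.nroots) (hs : s < D.nroots) :
    D.chainRoot r s 1 = if T.N r s = 0 then none else some (T.P r s) := by
  rw [ChevalleyDatum.chainRoot, T.chainEntry_eq hr hs, mkEntry]
  split_ifs <;> simp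

theorem chainRoot_two (hr : r < D.nroots) (hs : s < D.nroots) :
    D.chainRoot r s 2 = if T.N r s = 0 ∨ T.N r (T.P r s) = 0 then none
      else some (T.P r (T.P r s)) := by
  rw [ChevalleyDatum.chainRoot, T.chainEntry_eq hr hs, mkEntry]
  by_cases h0 : T.N r s = 0 <;> by_cases h1 : T.N r (T.P r s) = 0 <;> simp [h0, h1]

theorem chainRoot_three (hr : r < D.nroots) (hs : s < D.nroots) :
    D.chainRoot r s 3 = if T.N r s = 0 ∨ T.N r (T.P r s) = 0 ∨ T.N r (T.P r (T.P r s)) = 0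
      then none else some (T.P r (T.P r (T.P r s))) := by
  rw [ChevalleyDatum.chainRoot, T.chainEntry_eq hr hs, mkEntry]
  by_cases h0 : T.N r s = 0 <;> by_cases h1 : T.N r (T.P r s) = 0 <;>
    by_cases h2 : T.N r (T.P r (T.P r s)) = 0 <;> simp [h0, h1, h2]

include T in
theorem chainRoot_ge_four (hr : r < D.nroots) (hs : s < D.nroots) {i : ℕ} (hi : 4 ≤ i) :
    D.chainRoot r s i = none := by
  rw [ChevalleyDatum.chainRoot, T.chainEntry_eq hr hs, mkEntry]
  rw [Option.map_eq_none_iff, List.getElem?_eq_none_iff]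
  split_ifs <;> simp <;> omega

theorem chainM_one (hr : r < D.nroots) (hs : s < D.nroots) : D.chainM r s 1 = T.N r s := by
  rw [ChevalleyDatum.chainM, T.chainEntry_eq hr hs, mkEntry]
  split_ifs with h <;> simp [h]

theorem chainM_two (hr : r < D.nroots) (hs : s < D.nroots) :
    D.chainM r s 2 = M2 T.N T.P r s := by
  rw [ChevalleyDatum.chainM, T.chainEntry_eq hr hs, mkEntry, M2]
  by_cases h0 : T.N r s = 0 <;> by_cases h1 : T.N r (T.P r s) = 0 <;> simp [h0, h1]

theorem chainM_three (hr : r < D.nroots) (hs : s < D.nroots) :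
    D.chainM r s 3 = M3 T.N T.P r s := by
  rw [ChevalleyDatum.chainM, T.chainEntry_eq hr hs, mkEntry, M3]
  by_cases h0 : T.N r s = 0 <;> by_cases h1 : T.N r (T.P r s) = 0 <;>
    by_cases h2 : T.N r (T.P r (T.P r s)) = 0 <;> simp [h0, h1, h2]

theorem commTerms_zero (hr : r < D.nroots) (hs : s < D.nroots) (h : T.N r s = 0) :
    D.commTerms r s = [] := by
  have h' : T.N s r = 0 := by rw [T.N_anti hr hs, h, neg_zero]
  simp [ChevalleyDatum.commTerms, T.chainRoot_one hr hs, T.chainRoot_two hr hs,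
    T.chainRoot_three hr hs, T.chainRoot_two hs hr, T.chainRoot_three hs hr, h, h']

theorem commTerms_A (hr : r < D.nroots) (hs : s < D.nroots) (h : T.N r s ≠ 0)
    (h1 : T.N r (T.P r s) = 0) (h2 : T.N s (T.P r s) = 0) :
    D.commTerms r s = [(T.P r s, T.N r s, 1, 1)] := by
  simp [ChevalleyDatum.commTerms, T.chainRoot_one hr hs, T.chainRoot_two hr hs,
    T.chainRoot_three hr hs, T.chainRoot_two hs hr, T.chainRoot_three hs hr, h, h1, h2,
    T.P_comm hr hs h, T.chainM_one hr hs]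

theorem commTerms_B1 (hr : r < D.nroots) (hs : s < D.nroots) (h : T.N r s ≠ 0)
    (h1 : T.N r (T.P r s) ≠ 0) (h1' : T.N r (T.P r (T.P r s)) = 0) (h2 : T.N s (T.P r s) = 0) :
    D.commTerms r s = [(T.P r s, T.N r s, 1, 1), (T.P r (T.P r s), M2 T.N T.P r s, 2, 1)] := by
  simp [ChevalleyDatum.commTerms, T.chainRoot_one hr hs, T.chainRoot_two hr hs,
    T.chainRoot_three hr hs, T.chainRoot_two hs hr, T.chainRoot_three hs hr, h, h1, h1', h2,
    T.P_comm hr hs h, T.chainM_one hr hs, T.chainM_two hr hs]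

theorem commTerms_C (hr : r < D.nroots) (hs : s < D.nroots) (h : T.N r s ≠ 0)
    (h1 : T.N r (T.P r s) ≠ 0) (h1' : T.N r (T.P r (T.P r s)) = 0) (h2 : T.N s (T.P r s) ≠ 0)
    (h2' : T.N s (T.P s (T.P r s)) = 0) :
    D.commTerms r s = [(T.P r s, T.N r s, 1, 1), (T.P r (T.P r s), M2 T.N T.P r s, 2, 1),
      (T.P s (T.P r s), M2 T.N T.P s r, 1, 2)] := by
  have h' : T.N s r ≠ 0 := by rw [T.N_anti hr hs]; simpa using h
  simp [ChevalleyDatum.commTerms, T.chainRoot_one hr hs, T.chainRoot_two hr hs,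
    T.chainRoot_three hr hs, T.chainRoot_two hs hr, T.chainRoot_three hs hr, h, h', h1, h1', h2,
    h2', T.P_comm hr hs h, T.chainM_one hr hs, T.chainM_two hr hs, T.chainM_two hs hr]

theorem commTerms_G1 (hr : r < D.nroots) (hs : s < D.nroots) (h : T.N r s ≠ 0)
    (h1 : T.N r (T.P r s) ≠ 0) (h1' : T.N r (T.P r (T.P r s)) ≠ 0) (h2 : T.N s (T.P r s) = 0)
    (h3 : T.N (T.P r (T.P r (T.P r s))) s ≠ 0) :
    D.commTerms r s = [(T.P r s, T.N r s, 1, 1), (T.P r (T.P r s), M2 T.N T.P r s, 2, 1),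
      (T.P r (T.P r (T.P r s)), M3 T.N T.P r s, 3, 1),
      (T.P (T.P r (T.P r (T.P r s))) s, M2 T.N T.P (T.P r s) r / 3, 3, 2)] := by
  have k1 := T.P_lt hr hs h
  have k3 := T.P_lt hr (T.P_lt hr k1 h1) h1'
  simp [ChevalleyDatum.commTerms, T.chainRoot_one hr hs, T.chainRoot_two hr hs,
    T.chainRoot_three hr hs, T.chainRoot_two hs hr, T.chainRoot_three hs hr, h, h1, h1', h2, h3,
    T.P_comm hr hs h, T.chainM_one hr hs, T.chainM_two hr hs, T.chainM_three hr hs,
    T.chainRoot_one k3 hs, T.chainM_two k1 hr]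

theorem commTerms_B2 (hr : r < D.nroots) (hs : s < D.nroots) (h : T.N r s ≠ 0)
    (h1 : T.N r (T.P r s) = 0) (h2 : T.N s (T.P r s) ≠ 0) (h2' : T.N s (T.P s (T.P r s)) = 0) :
    D.commTerms r s = [(T.P r s, T.N r s, 1, 1), (T.P s (T.P r s), M2 T.N T.P s r, 1, 2)] := by
  have h' : T.N s r ≠ 0 := by rw [T.N_anti hr hs]; simpa using h
  simp [ChevalleyDatum.commTerms, T.chainRoot_one hr hs, T.chainRoot_two hr hs,
    T.chainRoot_three hr hs, T.chainRoot_two hs hr, T.chainRoot_three hs hr, h, h', h1, h2,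
    h2', T.P_comm hr hs h, T.chainM_one hr hs, T.chainM_two hs hr]

theorem commTerms_G2 (hr : r < D.nroots) (hs : s < D.nroots) (h : T.N r s ≠ 0)
    (h1 : T.N r (T.P r s) = 0) (h2 : T.N s (T.P r s) ≠ 0) (h2' : T.N s (T.P s (T.P r s)) ≠ 0)
    (h3 : T.N (T.P s (T.P s (T.P r s))) r ≠ 0) :
    D.commTerms r s = [(T.P r s, T.N r s, 1, 1), (T.P s (T.P r s), M2 T.N T.P s r, 1, 2),
      (T.P s (T.P s (T.P r s)), -M3 T.N T.P s r, 1, 3),
      (T.P (T.P s (T.P s (T.P r s))) r, -2 * M2 T.N T.P (T.P r s) s / 3, 2, 3)] := by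
  have h' : T.N s r ≠ 0 := by rw [T.N_anti hr hs]; simpa using h
  have k1 := T.P_lt hr hs h
  have k3 := T.P_lt hs (T.P_lt hs k1 h2) h2'
  simp [ChevalleyDatum.commTerms, T.chainRoot_one hr hs, T.chainRoot_two hr hs,
    T.chainRoot_three hr hs, T.chainRoot_two hs hr, T.chainRoot_three hs hr, h, h', h1, h2, h2', h3,
    T.P_comm hr hs h, T.chainM_one hr hs, T.chainM_two hs hr, T.chainM_three hs hr,
    T.chainRoot_one k3 hr, T.chainM_two k1 hs]

end Tab

end Cfsg.Agent.Chev
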