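/-
The adjoint matrices of a table and the Jacobi identity.
-/
import Cfsg.Agent.Chev.LieTab

set_option autoImplicit false

namespace Cfsg.Agent.Chev
open Cfsg.Lie Matrix

/-- weights of the basis vectors of the adjoint module -/
def adWt (D : ChevalleyDatum) (a : D.Idx) (i : ℕ) : ℤ :=
  Sum.elim (fun _ => 0) (fun u : Fin D.nroots => D.cartan i u) a

namespace Tab
variable {D : ChevalleyDatum} (T : Tab D)

/-- the matrix of `ad e_r` -/
def adE (r : ℕ) : Matrix D.Idx D.Idx ℤ :=
  Matrix.of fun a b => Sum.elim (fun i : Fin D.rank => ((-D.cartan i r) • ev D ℤ r) a)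
    (fun s : Fin D.nroots => brE D T.N T.P r s a) b

/-- the matrix of `ad` of a basis vector -/
def adB (b : D.Idx) : Matrix D.Idx D.Idx ℤ :=
  Sum.elim (fun i : Fin D.rank => Matrix.diagonal fun a => adWt D a i)
    (fun r : Fin D.nroots => T.adE r) b

/-- `ad` as a linear map -/
def adL : (D.Idx → ℤ) →ₗ[ℤ] Matrix D.Idx D.Idx ℤ := Fintype.linearCombination ℤ T.adB

theorem adL_bh (i : Fin D.rank) : T.adL (bh D ℤ i) = Matrix.diagonal fun a => adWt D a i := by
  simp [adL, bh, adB]

theorem adL_ev {r : ℕ} (hr : r < D.nroots) : T.adL (ev D ℤ r) = T.adE r := by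
  simp [adL, ev_eq_single hr, adB]

theorem adE_bh (r : ℕ) (i : Fin D.rank) :
    T.adE r *ᵥ bh D ℤ i = (-D.cartan i r) • ev D ℤ r := by
  rw [mulVec_bh]; rfl

theorem adE_ev (r : ℕ) {s : ℕ} (hs : s < D.nroots) :
    T.adE r *ᵥ ev D ℤ s = brE D T.N T.P r s := by
  rw [mulVec_ev _ hs]; rfl

theorem adE_hv (r s : ℕ) : T.adE r *ᵥ hv D ℤ s = (-D.pairing s r) • ev D ℤ r := by
  rw [hv_eq_sum, mulVec_sum, pairing_eq_sum_fin, ← Finset.sum_neg_distrib, Finset.sum_smul]
  refine Finset.sum_congr rfl fun i _ => ?_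
  rw [mulVec_smul, adE_bh, smul_smul]
  simp

omit T in
theorem diag_bh (i : ℕ) (j : Fin D.rank) :
    (Matrix.diagonal fun a => adWt D a i) *ᵥ bh D ℤ j = 0 := by
  funext a
  rw [mulVec_diagonal]
  rcases a with k | u <;> simp [adWt, bh]

omit T in
theorem diag_ev (i : ℕ) (s : ℕ) :
    (Matrix.diagonal fun a => adWt D a i) *ᵥ ev D ℤ s = D.cartan i s • ev D ℤ s := by
  funext a
  rw [mulVec_diagonal]
  rcases a with k | u
  · simp [adWt, ev]
  · by_cases h : u.val = s <;> simp [adWt, ev, h]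

omit T in
theorem diag_hv (i : ℕ) (s : ℕ) :
    (Matrix.diagonal fun a => adWt D a i) *ᵥ hv D ℤ s = 0 := by
  funext a
  rw [mulVec_diagonal]
  rcases a with k | u <;> simp [adWt, hv]

theorem brE_anti {r s : ℕ} (hr : r < D.nroots) (hs : s < D.nroots) :
    brE D T.N T.P s r = -brE D T.N T.P r s := by
  unfold brE
  by_cases h : r + s + 1 = D.nroots
  · rw [if_pos h, if_pos (by omega), (T.eq_neg_iff hr).2 h, T.hv_neg hr]
  · rw [if_neg h, if_neg (by omega), T.N_anti hr hs]
    by_cases h0 : T.N r s = 0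
    · simp [h0]
    · rw [T.P_comm hr hs h0, neg_smul]

theorem brE_self {r : ℕ} (hr : r < D.nroots) : brE D T.N T.P r r = 0 := by
  unfold brE
  rw [if_neg (T.self_ne hr), T.N_self hr, zero_smul]

theorem diag_brE {r s : ℕ} (hr : r < D.nroots) (hs : s < D.nroots) {i : ℕ} (hi : i < D.rank) :
    (Matrix.diagonal fun a => adWt D a i) *ᵥ brE D T.N T.P r s =
      (D.cartan i r + D.cartan i s) • brE D T.N T.P r s := by
  unfold brE
  by_cases h : r + s + 1 = D.nroots
  · rw [if_pos h, diag_hv, (T.eq_neg_iff hr).2 h, T.cartan_neg hr hi]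
    simp
  · rw [if_neg h]
    by_cases h0 : T.N r s = 0
    · simp [h0]
    · rw [mulVec_smul, diag_ev, T.cartan_P r hr s hs h0 i hi, smul_comm]

theorem adE_brE (x : ℕ) {y z : ℕ} (hy : y < D.nroots) (hz : z < D.nroots) :
    T.adE x *ᵥ brE D T.N T.P y z = tri D T.N T.P x y z := by
  unfold tri
  by_cases h : y + z + 1 = D.nroots
  · rw [if_pos h, brE, if_pos h, adE_hv]
  · rw [if_neg h]
    conv_lhs => rw [brE, if_neg h]
    by_cases h0 : T.N y z = 0
    · simp [h0]
    · rw [mulVec_smul, T.adE_ev x (T.P_lt hy hz h0)]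

/-- the bracket -/
def br (v w : D.Idx → ℤ) : D.Idx → ℤ := T.adL v *ᵥ w

theorem br_add_left (v v' w : D.Idx → ℤ) : T.br (v + v') w = T.br v w + T.br v' w := by
  simp [br, add_mulVec]
theorem br_add_right (v w w' : D.Idx → ℤ) : T.br v (w + w') = T.br v w + T.br v w' := by
  simp [br, mulVec_add]
theorem br_smul_left (c : ℤ) (v w : D.Idx → ℤ) : T.br (c • v) w = c • T.br v w := by
  rw [br, map_smul, smul_mulVec, br]
theorem br_smul_right (c : ℤ) (v w : D.Idx → ℤ) : T.br v (c • w) = c • T.br v w := by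
  rw [br, mulVec_smul, br]
theorem br_zero_left (w : D.Idx → ℤ) : T.br 0 w = 0 := by simp [br]
theorem br_zero_right (v : D.Idx → ℤ) : T.br v 0 = 0 := by simp [br]
theorem br_neg_left (v w : D.Idx → ℤ) : T.br (-v) w = -T.br v w := by
  rw [br, map_neg, neg_mulVec, br]
theorem br_neg_right (v w : D.Idx → ℤ) : T.br v (-w) = -T.br v w := by
  rw [br, mulVec_neg, br]

theorem br_bh_bh (i j : Fin D.rank) : T.br (bh D ℤ i) (bh D ℤ j) = 0 := by
  rw [br, adL_bh, diag_bh]
theorem br_bh_ev (i : Fin D.rank) (s : ℕ) :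
    T.br (bh D ℤ i) (ev D ℤ s) = D.cartan i s • ev D ℤ s := by
  rw [br, adL_bh, diag_ev]
theorem br_ev_bh {r : ℕ} (hr : r < D.nroots) (i : Fin D.rank) :
    T.br (ev D ℤ r) (bh D ℤ i) = (-D.cartan i r) • ev D ℤ r := by
  rw [br, T.adL_ev hr, adE_bh]
theorem br_ev_ev {r s : ℕ} (hr : r < D.nroots) (hs : s < D.nroots) :
    T.br (ev D ℤ r) (ev D ℤ s) = brE D T.N T.P r s := by
  rw [br, T.adL_ev hr, T.adE_ev r hs]

theorem br_anti (v w : D.Idx → ℤ) : T.br w v = -T.br v w := by
  induction v using vec_ind with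
  | h0 => simp [br_zero_left, br_zero_right]
  | hadd v v' h1 h2 => rw [br_add_left, br_add_right, h1, h2, neg_add]
  | hsmul c v h => rw [br_smul_left, br_smul_right, h, smul_neg]
  | hh i =>
    induction w using vec_ind with
    | h0 => simp [br_zero_left, br_zero_right]
    | hadd v v' h1 h2 => rw [br_add_left, br_add_right, h1, h2, neg_add]
    | hsmul c v h => rw [br_smul_left, br_smul_right, h, smul_neg]
    | hh j => simp [br_bh_bh]
    | he s hs => rw [T.br_ev_bh hs, br_bh_ev, neg_smul]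
  | he r hr =>
    induction w using vec_ind with
    | h0 => simp [br_zero_left, br_zero_right]
    | hadd v v' h1 h2 => rw [br_add_left, br_add_right, h1, h2, neg_add]
    | hsmul c v h => rw [br_smul_left, br_smul_right, h, smul_neg]
    | hh j => rw [T.br_ev_bh hr, br_bh_ev, neg_smul, _root_.neg_neg]
    | he s hs => rw [T.br_ev_ev hr hs, T.br_ev_ev hs hr, T.brE_anti hr hs]

/-- the Jacobi sum -/
def jacS (x y z : D.Idx → ℤ) : D.Idx → ℤ :=
  T.br x (T.br y z) + T.br y (T.br z x) + T.br z (T.br x y)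

theorem jacS_cyc (x y z : D.Idx → ℤ) : T.jacS x y z = T.jacS y z x := by
  unfold jacS; abel

theorem jacS_swap (x y z : D.Idx → ℤ) : T.jacS x z y = -T.jacS x y z := by
  unfold jacS
  rw [T.br_anti y z, T.br_anti x y, T.br_anti z x]
  simp only [br_neg_right]
  abel

theorem jacS_ind (x y : D.Idx → ℤ) (hh : ∀ i, T.jacS x y (bh D ℤ i) = 0)
    (he : ∀ r < D.nroots, T.jacS x y (ev D ℤ r) = 0) (z : D.Idx → ℤ) : T.jacS x y z = 0 := by
  induction z using vec_ind with
  | h0 => simp [jacS, br_zero_left, br_zero_right]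
  | hadd v v' h1 h2 =>
    have : T.jacS x y (v + v') = T.jacS x y v + T.jacS x y v' := by
      simp only [jacS, br_add_left, br_add_right]; abel
    rw [this, h1, h2, add_zero]
  | hsmul c v h =>
    have : T.jacS x y (c • v) = c • T.jacS x y v := by
      simp only [jacS, br_smul_left, br_smul_right, smul_add]
    rw [this, h, smul_zero]
  | hh i => exact hh i
  | he r hr => exact he r hr

theorem jacS_bh (i : Fin D.rank) (y z : D.Idx → ℤ) : T.jacS (bh D ℤ i) y z = 0 := by
  have h2 : ∀ (j : Fin D.rank) (z), T.jacS (bh D ℤ i) (bh D ℤ j) z = 0 := by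
    intro j
    refine T.jacS_ind _ _ (fun k => by simp [jacS, br_bh_bh, br_zero_right]) fun r hr => ?_
    simp only [jacS, br_bh_bh, br_zero_right, br_bh_ev, T.br_ev_bh hr, br_smul_right, smul_smul]
    rw [add_zero, ← add_smul]
    convert zero_smul ℤ (ev D ℤ r) using 2
    ring
  have h3 : ∀ r < D.nroots, ∀ z, T.jacS (bh D ℤ i) (ev D ℤ r) z = 0 := by
    intro r hr
    refine T.jacS_ind _ _ (fun k => by rw [jacS_swap, h2, neg_zero]) fun s hs => ?_
    simp only [jacS, br_bh_ev, T.br_ev_bh hs, br_smul_right, T.br_ev_ev hr hs, T.br_ev_ev hs hr,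
      T.brE_anti hr hs]
    rw [br, adL_bh, T.diag_brE hr hs i.2]
    module
  rw [jacS_cyc, jacS_cyc]
  refine T.jacS_ind _ _ (fun k => ?_) (fun r hr => ?_) _
  · rw [jacS_cyc, h2]
  · rw [jacS_cyc, h3 r hr]

theorem jacS_simple {i : ℕ} (hi : i < D.rank) (y z : D.Idx → ℤ) :
    T.jacS (ev D ℤ (D.simple i)) y z = 0 := by
  have hp := T.simple_lt i hi
  have key : ∀ t < D.nroots, ∀ s < t,
      T.jacS (ev D ℤ (D.simple i)) (ev D ℤ s) (ev D ℤ t) = 0 := by
    intro t ht s hst
    have hs : s < D.nroots := hst.trans ht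
    rw [← T.jac i hi t ht s hst, jacS, T.br_ev_ev hs ht, T.br_ev_ev ht hp, T.br_ev_ev hp hs, br,
      br, br, T.adL_ev hp, T.adL_ev hs, T.adL_ev ht, T.adE_brE _ hs ht, T.adE_brE _ ht hp,
      T.adE_brE _ hp hs]
  have h3 : ∀ r < D.nroots, ∀ z, T.jacS (ev D ℤ (D.simple i)) (ev D ℤ r) z = 0 := by
    intro r hr
    refine T.jacS_ind _ _ (fun k => by rw [jacS_cyc, jacS_cyc, jacS_bh]) fun s hs => ?_
    rcases lt_trichotomy r s with h | h | h
    · exact key s hs r h
    · subst h
      rw [jacS, T.br_ev_ev hr hr, T.brE_self hr, br_zero_right, T.br_anti (ev D ℤ r), br_neg_right]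
      simp
    · rw [jacS_swap, key r hr s h, neg_zero]
  rw [jacS_cyc, jacS_cyc]
  refine T.jacS_ind _ _ (fun k => ?_) (fun r hr => ?_) _
  · rw [jacS_cyc, jacS_cyc, jacS_bh]
  · rw [jacS_cyc, h3 r hr]

/-- `ad v` is a derivation -/
def IsDer (v : D.Idx → ℤ) : Prop := ∀ y z, T.jacS v y z = 0

theorem IsDer.br_br {T : Tab D} {v : D.Idx → ℤ} (h : T.IsDer v) (y z : D.Idx → ℤ) :
    T.br (T.br v y) z = T.br v (T.br y z) - T.br y (T.br v z) := by
  have := h y z
  rw [jacS, T.br_anti v z, T.br_anti (T.br v y) z, br_neg_right] at this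
  rw [← sub_eq_zero, ← neg_eq_zero, ← this]
  abel

theorem isDer_of {v : D.Idx → ℤ}
    (h : ∀ y z, T.br (T.br v y) z = T.br v (T.br y z) - T.br y (T.br v z)) : T.IsDer v := by
  intro y z
  rw [jacS, T.br_anti v z, T.br_anti (T.br v y) z, br_neg_right, h]
  abel

theorem br_sub_left (v v' w : D.Idx → ℤ) : T.br (v - v') w = T.br v w - T.br v' w := by
  rw [sub_eq_add_neg, br_add_left, br_neg_left, sub_eq_add_neg]
theorem br_sub_right (v w w' : D.Idx → ℤ) : T.br v (w - w') = T.br v w - T.br v w' := by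
  rw [sub_eq_add_neg, br_add_right, br_neg_right, sub_eq_add_neg]

theorem IsDer.br {T : Tab D} {v w : D.Idx → ℤ} (hv : T.IsDer v) (hw : T.IsDer w) :
    T.IsDer (T.br v w) := by
  refine T.isDer_of fun y z => ?_
  simp only [hv.br_br, hw.br_br, br_sub_left, br_sub_right]
  abel

theorem IsDer.of_smul {T : Tab D} {v : D.Idx → ℤ} {c : ℤ} (hc : c ≠ 0) (h : T.IsDer (c • v)) :
    T.IsDer v := by
  intro y z
  have h1 := h y z
  have : T.jacS (c • v) y z = c • T.jacS v y z := by
    simp only [jacS, br_smul_left, br_smul_right, smul_add]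
  rw [this] at h1
  exact (smul_eq_zero.1 h1).resolve_left hc

theorem isDer_pos {r : ℕ} (hr : r < D.nroots) (h2 : D.nroots ≤ 2 * r) : T.IsDer (ev D ℤ r) := by
  induction r using Nat.strong_induction_on with
  | _ r ih =>
    obtain ⟨i, hi, h | ⟨s, hsr, h2s, hN, hP⟩⟩ := T.gen r hr h2
    · rw [h]; exact T.jacS_simple hi
    · have hs : s < D.nroots := hsr.trans hr
      have hp := T.simple_lt i hi
      have h1 : T.IsDer (T.br (ev D ℤ (D.simple i)) (ev D ℤ s)) :=
        IsDer.br (T.jacS_simple hi) (ih s hsr hs h2s)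
      rw [T.br_ev_ev hp hs, brE, if_neg (fun h => hN (T.N_of_neg hp hs h)), hP] at h1
      exact h1.of_smul hN

/-- the Chevalley involution -/
def theta (D : ChevalleyDatum) (R : Type*) [CommRing R] : (D.Idx → R) →ₗ[R] (D.Idx → R) where
  toFun v := fun a => -v (Sum.map id Fin.rev a)
  map_add' v w := by funext a; simp; ring
  map_smul' c v := by funext a; simp

omit T in
theorem theta_theta {R : Type*} [CommRing R] (v : D.Idx → R) : theta D R (theta D R v) = v := by
  funext a
  rcases a with i | u <;> simp [theta]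

omit T in
theorem theta_bh {R : Type*} [CommRing R] (i : Fin D.rank) : theta D R (bh D R i) = -bh D R i := by
  funext a
  rcases a with i | u <;> simp [theta, bh]

omit T in
theorem theta_hv {R : Type*} [CommRing R] (r : ℕ) : theta D R (hv D R r) = -hv D R r := by
  funext a
  rcases a with i | u <;> simp [theta, hv]

include T in
theorem theta_ev {R : Type*} [CommRing R] {r : ℕ} (hr : r < D.nroots) :
    theta D R (ev D R r) = -ev D R (D.neg r) := by
  funext a
  rcases a with i | u
  · simp [theta, ev]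
  · have := u.2
    have e : (D.nroots - (u + 1) = r) ↔ (u : ℕ) = D.neg r := by rw [T.neg_eq' hr]; omega
    simp [theta, ev, Fin.val_rev, e]

theorem theta_br (v w : D.Idx → ℤ) :
    theta D ℤ (T.br v w) = T.br (theta D ℤ v) (theta D ℤ w) := by
  induction v using vec_ind with
  | h0 => simp [br_zero_left]
  | hadd v v' h1 h2 => simp only [br_add_left, map_add, h1, h2]
  | hsmul c v h => simp only [br_smul_left, map_smul, h]
  | hh i =>
    induction w using vec_ind with
    | h0 => simp [br_zero_right]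
    | hadd v v' h1 h2 => simp only [br_add_right, map_add, h1, h2]
    | hsmul c v h => simp only [br_smul_right, map_smul, h]
    | hh j => simp [br_bh_bh, theta_bh, br_neg_left, br_neg_right]
    | he s hs =>
      rw [br_bh_ev, map_smul, theta_bh, T.theta_ev hs, br_neg_left, br_neg_right, br_bh_ev,
        T.cartan_neg hs i.2]
      simp
  | he r hr =>
    induction w using vec_ind with
    | h0 => simp [br_zero_right]
    | hadd v v' h1 h2 => simp only [br_add_right, map_add, h1, h2]
    | hsmul c v h => simp only [br_smul_right, map_smul, h]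
    | hh j =>
      rw [T.br_ev_bh hr, map_smul, theta_bh, T.theta_ev hr, br_neg_left, br_neg_right,
        T.br_ev_bh (T.neg_lt hr), T.cartan_neg hr j.2]
      simp
    | he s hs =>
      rw [T.br_ev_ev hr hs, T.theta_ev hr, T.theta_ev hs, br_neg_left, br_neg_right,
        _root_.neg_neg, T.br_ev_ev (T.neg_lt hr) (T.neg_lt hs)]
      unfold brE
      have e1 := T.neg_eq r hr
      have e2 := T.neg_eq s hs
      by_cases h : r + s + 1 = D.nroots
      · rw [if_pos h, if_pos (by omega), theta_hv, T.hv_neg hr]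
      · rw [if_neg h, if_neg (by omega), T.N_neg_neg hr hs, map_smul]
        by_cases h0 : T.N r s = 0
        · simp [h0]
        · rw [T.theta_ev (T.P_lt hr hs h0), T.P_neg_neg hr hs h0]
          simp

theorem IsDer.theta {T : Tab D} {v : D.Idx → ℤ} (h : T.IsDer v) : T.IsDer (theta D ℤ v) := by
  intro y z
  have h1 := congrArg (Tab.theta D ℤ) (h (Tab.theta D ℤ y) (Tab.theta D ℤ z))
  simpa only [jacS, map_add, theta_br, theta_theta, map_zero] using h1

theorem isDer_ev {r : ℕ} (hr : r < D.nroots) : T.IsDer (ev D ℤ r) := by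
  by_cases h2 : D.nroots ≤ 2 * r
  · exact T.isDer_pos hr h2
  · have e := T.neg_eq r hr
    have h3 := (T.isDer_pos (T.neg_lt hr) (by have := T.self_ne hr; omega)).theta
    rw [T.theta_ev (T.neg_lt hr), T.neg_neg hr, ← neg_one_smul ℤ] at h3
    exact h3.of_smul (by norm_num)

/-- The adjoint matrices satisfy the Chevalley relations. -/
theorem adE_comm {r s : ℕ} (hr : r < D.nroots) (hs : s < D.nroots) :
    T.adE r * T.adE s - T.adE s * T.adE r = T.adL (brE D T.N T.P r s) := by
  have h : ∀ z, (T.adE r * T.adE s - T.adE s * T.adE r) *ᵥ z = T.adL (brE D T.N T.P r s) *ᵥ z := by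
    intro z
    have := (T.isDer_ev hr).br_br (ev D ℤ s) z
    rw [T.br_ev_ev hr hs] at this
    simp only [br, T.adL_ev hr, T.adL_ev hs] at this
    rw [this, sub_mulVec, mulVec_mulVec, mulVec_mulVec]
  exact mat_ext (fun i => h _) (fun r _ => h _)

end Tab

end Cfsg.Agent.Chev
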