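/-
A homomorphism out of `SL₂(F)` from the rank-one Steinberg relations.
-/
import Mathlib

set_option autoImplicit false

namespace Cfsg.Agent.Chev
open Matrix

/-- The rank-one relations in a monoid. -/
structure SL2Rel (F : Type*) [Field F] (M : Type*) [Monoid M] where
  x : F → M
  y : F → M
  h : F → M
  w : M
  x_add : ∀ a b, x a * x b = x (a + b)
  x_zero : x 0 = 1
  h_mul : ∀ a b, a ≠ 0 → b ≠ 0 → h a * h b = h (a * b)
  h_one : h 1 = 1
  n_eq : ∀ t, t ≠ 0 → x t * y (-t⁻¹) * x t = h t * w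
  y_zero : y 0 = 1
  h_x : ∀ a s, a ≠ 0 → h a * x s = x (a ^ 2 * s) * h a
  w_h : ∀ a, a ≠ 0 → w * h a = h a⁻¹ * w
  w_w : w * w = h (-1)
  w_x : ∀ s, w * x s = y (-s) * w

namespace SL2Rel
variable {F : Type*} [Field F] {M : Type*} [Monoid M] (S : SL2Rel F M)

open Classical in
/-- the normal form map -/
noncomputable def phi (g : SpecialLinearGroup (Fin 2) F) : M :=
  if g 1 0 = 0 then S.h (g 0 0) * S.x (g 0 1 / g 0 0)
  else S.x (g 0 0 / g 1 0) * (S.h (-(g 1 0)⁻¹) * S.w) * S.x (g 1 1 / g 1 0)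

/-- upper unitriangular matrix -/
def uu (t : F) : SpecialLinearGroup (Fin 2) F := ⟨!![1, t; 0, 1], by simp⟩
/-- the Weyl element -/
def ww (F : Type*) [Field F] : SpecialLinearGroup (Fin 2) F := ⟨!![0, 1; -1, 0], by simp⟩

theorem uu_coe (t : F) : ((uu t : SpecialLinearGroup (Fin 2) F) : Matrix (Fin 2) (Fin 2) F) =
    !![1, t; 0, 1] := rfl
theorem ww_coe : ((ww F : SpecialLinearGroup (Fin 2) F) : Matrix (Fin 2) (Fin 2) F) =
    !![0, 1; -1, 0] := rfl

theorem det_eq (g : SpecialLinearGroup (Fin 2) F) : g 0 0 * g 1 1 - g 0 1 * g 1 0 = 1 := by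
  have := g.2
  rwa [Matrix.det_fin_two] at this

theorem x_h {a : F} (ha : a ≠ 0) (s : F) : S.x s * S.h a = S.h a * S.x (s / a ^ 2) := by
  rw [S.h_x a _ ha]; congr 2; field_simp

theorem phi_uu_mul (t : F) (g : SpecialLinearGroup (Fin 2) F) :
    S.phi (uu t * g) = S.x t * S.phi g := by
  have e00 : (uu t * g) 0 0 = g 0 0 + t * g 1 0 := by
    simp [uu_coe, Matrix.mul_apply, Fin.sum_univ_two]
  have e01 : (uu t * g) 0 1 = g 0 1 + t * g 1 1 := by
    simp [uu_coe, Matrix.mul_apply, Fin.sum_univ_two]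
  have e10 : (uu t * g) 1 0 = g 1 0 := by
    simp [uu_coe, Matrix.mul_apply, Fin.sum_univ_two]
  have e11 : (uu t * g) 1 1 = g 1 1 := by
    simp [uu_coe, Matrix.mul_apply, Fin.sum_univ_two]
  have hd := det_eq g
  unfold phi
  rw [e00, e01, e10, e11]
  split_ifs with hc
  · rw [hc, mul_zero, sub_zero] at hd
    have ha : g 0 0 ≠ 0 := left_ne_zero_of_mul_eq_one hd
    rw [hc, mul_zero, add_zero, ← mul_assoc, S.x_h ha, mul_assoc, S.x_add]
    congr 2
    field_simp
    linear_combination t * hd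
  · rw [← mul_assoc (S.x t), ← mul_assoc (S.x t), S.x_add]
    congr 3
    field_simp
    ring

theorem phi_ww_mul (g : SpecialLinearGroup (Fin 2) F) :
    S.phi (ww F * g) = S.w * S.phi g := by
  have e00 : (ww F * g) 0 0 = g 1 0 := by
    simp [ww_coe, Matrix.mul_apply, Fin.sum_univ_two]
  have e01 : (ww F * g) 0 1 = g 1 1 := by
    simp [ww_coe, Matrix.mul_apply, Fin.sum_univ_two]
  have e10 : (ww F * g) 1 0 = -g 0 0 := by
    simp [ww_coe, Matrix.mul_apply, Fin.sum_univ_two]
  have e11 : (ww F * g) 1 1 = -g 0 1 := by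
    simp [ww_coe, Matrix.mul_apply, Fin.sum_univ_two]
  have hd := det_eq g
  unfold phi
  rw [e00, e01, e10, e11]
  have key : ∀ c : F, c ≠ 0 → S.w * (S.h (-c⁻¹) * S.w) = S.h c := by
    intro c hc
    rw [← mul_assoc, S.w_h _ (by simpa using hc), mul_assoc, S.w_w,
      S.h_mul _ _ (by simpa using hc) (by simp)]
    congr 1
    field_simp
  by_cases hc : g 1 0 = 0
  · rw [hc, mul_zero, sub_zero] at hd
    have ha : g 0 0 ≠ 0 := left_ne_zero_of_mul_eq_one hd
    rw [if_pos hc, if_neg (by simpa using ha), hc, zero_div, S.x_zero, one_mul, ← mul_assoc,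
      S.w_h _ ha, neg_div_neg_eq, inv_neg, neg_neg]
  · rw [if_neg hc]
    by_cases ha : g 0 0 = 0
    · rw [if_pos (by simpa using ha), ha, zero_div, S.x_zero, one_mul, ← mul_assoc, key _ hc]
    · rw [if_neg (by simpa using ha)]
      have hs : g 1 0 / g 0 0 ≠ 0 := div_ne_zero hc ha
      have h1 := S.n_eq _ hs
      have h2 : S.y (-(g 0 0 / g 1 0)) = S.x (-(g 1 0 / g 0 0)) * (S.h (g 1 0 / g 0 0) * S.w) *
          S.x (-(g 1 0 / g 0 0)) := by
        rw [← h1, inv_div]
        simp only [← mul_assoc, S.x_add, neg_add_cancel, S.x_zero, one_mul]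
        rw [mul_assoc, S.x_add, add_neg_cancel, S.x_zero, mul_one]
      rw [← mul_assoc S.w, ← mul_assoc S.w, S.w_x, mul_assoc (S.y _), key _ hc, h2, mul_assoc,
        mul_assoc, mul_assoc, mul_assoc, mul_assoc, mul_assoc, ← mul_assoc (S.x _) (S.h (g 1 0)),
        S.x_h hc, mul_assoc, S.x_add, ← mul_assoc S.w, S.w_h _ hc, mul_assoc,
        ← mul_assoc (S.h _) (S.h _), S.h_mul _ _ hs (inv_ne_zero hc)]
      congr 2
      · field_simp
      · congr 1; field_simp
      · congr 2
        field_simp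
        linear_combination -hd

theorem phi_one : S.phi 1 = 1 := by
  simp [phi, S.h_one, S.x_zero]

theorem phi_uu (t : F) : S.phi (uu t) = S.x t := by
  rw [← mul_one (uu t), phi_uu_mul, phi_one, mul_one]

theorem phi_ww : S.phi (ww F) = S.w := by
  rw [← mul_one (ww F), phi_ww_mul, phi_one, mul_one]

theorem gen_induction {p : SpecialLinearGroup (Fin 2) F → Prop} (hu : ∀ t, p (uu t))
    (hw : p (ww F)) (hmul : ∀ g g', p g → p g' → p (g * g')) (g : SpecialLinearGroup (Fin 2) F) :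
    p g := by
  have h1 : ∀ g : SpecialLinearGroup (Fin 2) F, g 1 0 ≠ 0 → p g := by
    intro g hc
    have hd := det_eq g
    have : g = uu ((g 0 0 - 1) / g 1 0) * (ww F * uu (-g 1 0) * ww F * ww F * ww F) *
        uu ((g 1 1 - 1) / g 1 0) := by
      ext i j
      fin_cases i <;> fin_cases j <;>
        simp [uu_coe, ww_coe, Matrix.mul_apply, Fin.sum_univ_two] <;> field_simp
      · ring
      · linear_combination -hd
      · ring
    rw [this]
    exact hmul _ _ (hmul _ _ (hu _) (hmul _ _ (hmul _ _ (hmul _ _ (hmul _ _ hw (hu _)) hw) hw) hw))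
      (hu _)
  by_cases hc : g 1 0 = 0
  · have hd := det_eq g
    rw [hc, mul_zero, sub_zero] at hd
    have ha : g 0 0 ≠ 0 := left_ne_zero_of_mul_eq_one hd
    have : g = ww F * ww F * ww F * (ww F * g) := by
      rw [← mul_assoc, show ww F * ww F * ww F * ww F = 1 by
        ext i j
        fin_cases i <;> fin_cases j <;> simp [ww_coe, Matrix.mul_apply, Fin.sum_univ_two], one_mul]
    rw [this]
    refine hmul _ _ (hmul _ _ (hmul _ _ hw hw) hw) (h1 _ ?_)
    have e10 : (ww F * g) 1 0 = -g 0 0 := by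
      simp [ww_coe, Matrix.mul_apply, Fin.sum_univ_two]
    rw [e10]; simpa using ha
  · exact h1 g hc

theorem phi_mul (g g' : SpecialLinearGroup (Fin 2) F) : S.phi (g * g') = S.phi g * S.phi g' := by
  induction g using gen_induction generalizing g' with
  | hu t => rw [phi_uu_mul, phi_uu]
  | hw => rw [phi_ww_mul, phi_ww]
  | hmul a b ha hb => rw [mul_assoc, ha, hb, ha, mul_assoc]

/-- the homomorphism -/
noncomputable def hom : SpecialLinearGroup (Fin 2) F →* M where
  toFun := S.phi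
  map_one' := S.phi_one
  map_mul' := S.phi_mul

theorem hom_upper (g : SpecialLinearGroup (Fin 2) F) (t : F)
    (h : (g : Matrix (Fin 2) (Fin 2) F) = !![1, t; 0, 1]) : S.hom g = S.x t := by
  have : g = uu t := Subtype.ext h
  rw [this]; exact S.phi_uu t

theorem hom_lower (g : SpecialLinearGroup (Fin 2) F) (t : F)
    (h : (g : Matrix (Fin 2) (Fin 2) F) = !![1, 0; t, 1]) : S.hom g = S.y t := by
  have : g = ww F * uu (-t) * (ww F * ww F * (ww F)) := by
    apply Subtype.ext
    rw [h]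
    ext i j
    fin_cases i <;> fin_cases j <;> simp [uu_coe, ww_coe, Matrix.mul_apply, Fin.sum_univ_two]
  rw [this]
  simp only [map_mul]
  show S.phi _ * S.phi _ * (S.phi _ * S.phi _ * S.phi _) = _
  rw [phi_ww, phi_uu, S.w_x, neg_neg, mul_assoc, mul_assoc, ← mul_assoc S.w, S.w_w,
    S.h_mul _ _ (by simp) (by simp)]
  simp [S.h_one]

theorem hom_ww : S.hom (ww F) = S.w := S.phi_ww

theorem hom_uu (t : F) : S.hom (uu t) = S.x t := S.phi_uu t

end SL2Rel

end Cfsg.Agent.Chev
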