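/-
Integral representations of the Lie algebra of a table, their root elements over any commutative
ring, and the adjoint representation.
-/
import Cfsg.Agent.Chev.LieJac

set_option autoImplicit false

namespace Cfsg.Agent.Chev
open Cfsg.Lie Matrix

/-- A representation by integer matrices on a basis of weight vectors, with integral divided
powers. -/
structure IntRep {D : ChevalleyDatum} (T : Tab D) (J : Type) [Fintype J] [DecidableEq J] where
  μ : J → ℕ → ℤ
  e : ℕ → Matrix J J ℤ
  e2 : ℕ → Matrix J J ℤ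
  e3 : ℕ → Matrix J J ℤ
  he2 : ∀ r < D.nroots, e r * e r = (2 : ℤ) • e2 r
  he3 : ∀ r < D.nroots, e r * e2 r = (3 : ℤ) • e3 r
  he4 : ∀ r < D.nroots, e r * e3 r = 0
  wt : ∀ r < D.nroots, ∀ a b, e r a b ≠ 0 → ∀ i < D.rank, μ a i = μ b i + D.cartan i r
  rel_neg : ∀ r < D.nroots, e r * e (D.neg r) - e (D.neg r) * e r =
    Matrix.diagonal fun a => ∑ i : Fin D.rank, cor D r i * μ a i
  rel : ∀ r < D.nroots, ∀ s < D.nroots, r + s + 1 ≠ D.nroots →
    e r * e s - e s * e r = T.N r s • e (T.P r s)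

/-- reduction of an integer matrix -/
def cst {I J : Type*} (R : Type*) [CommRing R] (M : Matrix I J ℤ) : Matrix I J R :=
  M.map (Int.castRingHom R)

theorem cst_map {I J : Type*} {R S : Type*} [CommRing R] [CommRing S] (φ : R →+* S)
    (M : Matrix I J ℤ) : (cst R M).map φ = cst S M := by
  ext a b; simp [cst]

theorem cst_mul {I J K : Type*} [Fintype J] (R : Type*) [CommRing R] (M : Matrix I J ℤ)
    (N : Matrix J K ℤ) : cst R (M * N) = cst R M * cst R N := Matrix.map_mul

theorem cst_smul {I J : Type*} (R : Type*) [CommRing R] (c : ℤ) (M : Matrix I J ℤ) :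
    cst R (c • M) = (c : R) • cst R M := by
  ext a b; simp [cst]

theorem cst_sub {I J : Type*} (R : Type*) [CommRing R] (M N : Matrix I J ℤ) :
    cst R (M - N) = cst R M - cst R N := by
  ext a b; simp [cst]

theorem cst_zero {I J : Type*} (R : Type*) [CommRing R] : cst R (0 : Matrix I J ℤ) = 0 := by
  ext a b; simp [cst]

theorem cst_diagonal {J : Type*} [DecidableEq J] (R : Type*) [CommRing R] (d : J → ℤ) :
    cst R (Matrix.diagonal d) = Matrix.diagonal fun a => (d a : R) := by
  rw [cst, Matrix.diagonal_map (by simp)]; rfl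

theorem cst_int {I J : Type*} (M : Matrix I J ℤ) : cst ℤ M = M := by
  ext a b; simp [cst]

theorem cst_injective {I J : Type*} (R : Type*) [CommRing R] [CharZero R] {M N : Matrix I J ℤ}
    (h : cst R M = cst R N) : M = N := by
  ext a b
  have := congrFun (congrFun h a) b
  simpa [cst] using this

/-- reduction of an integer vector -/
def cstV {J : Type*} (R : Type*) [CommRing R] (v : J → ℤ) : J → R := fun a => (v a : R)

theorem cst_mulVec {I J : Type*} [Fintype J] (R : Type*) [CommRing R] (M : Matrix I J ℤ)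
    (v : J → ℤ) : cst R M *ᵥ cstV R v = cstV R (M *ᵥ v) := by
  funext a
  simp [cst, cstV, mulVec, dotProduct]

theorem cstV_smul {J : Type*} (R : Type*) [CommRing R] (c : ℤ) (v : J → ℤ) :
    cstV R (c • v) = (c : R) • cstV R v := by
  funext a; simp [cstV]

theorem cstV_zero {J : Type*} (R : Type*) [CommRing R] : cstV R (0 : J → ℤ) = 0 := by
  funext a; simp [cstV]

theorem cstV_neg {J : Type*} (R : Type*) [CommRing R] (v : J → ℤ) : cstV R (-v) = -cstV R v := by
  funext a; simp [cstV]

theorem cstV_ev (D : ChevalleyDatum) (R : Type*) [CommRing R] (r : ℕ) :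
    cstV R (ev D ℤ r) = ev D R r := by
  funext a; rcases a with i | u <;> simp [cstV, ev]

theorem cstV_hv (D : ChevalleyDatum) (R : Type*) [CommRing R] (r : ℕ) :
    cstV R (hv D ℤ r) = hv D R r := by
  funext a; rcases a with i | u <;> simp [cstV, hv]

theorem cstV_bh (D : ChevalleyDatum) (R : Type*) [CommRing R] (i : Fin D.rank) :
    cstV R (bh D ℤ i) = bh D R i := by
  funext a; simp [cstV, bh, Pi.single_apply]

namespace IntRep
variable {D : ChevalleyDatum} {T : Tab D} {J : Type} [Fintype J] [DecidableEq J] (ρ : IntRep T J)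

/-- the root element `x_r(t)` in the representation -/
def X (R : Type*) [CommRing R] (r : ℕ) (t : R) : Matrix J J R :=
  if r < D.nroots then 1 + t • cst R (ρ.e r) + t ^ 2 • cst R (ρ.e2 r) + t ^ 3 • cst R (ρ.e3 r)
  else 1

/-- the matrix of a word -/
def W (R : Type*) [CommRing R] (w : List (ℕ × R)) : Matrix J J R :=
  (w.map fun p => ρ.X R p.1 p.2).prod

/-- the pairing of the weight of a basis vector with a coroot -/
def m (r : ℕ) (a : J) : ℤ := ∑ i : Fin D.rank, cor D r i * ρ.μ a i

variable {R S : Type*} [CommRing R] [CommRing S]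

theorem X_of_lt {r : ℕ} (hr : r < D.nroots) (t : R) : ρ.X R r t =
    1 + t • cst R (ρ.e r) + t ^ 2 • cst R (ρ.e2 r) + t ^ 3 • cst R (ρ.e3 r) := if_pos hr

theorem X_zero (r : ℕ) : ρ.X R r 0 = 1 := by
  unfold X; split_ifs <;> simp

theorem X_map (φ : R →+* S) (r : ℕ) (t : R) : (ρ.X R r t).map φ = ρ.X S r (φ t) := by
  unfold X
  split_ifs
  · ext a b
    simp [cst, Matrix.one_apply]
  · exact Matrix.map_one _ (map_zero φ) (map_one φ)

theorem W_nil : ρ.W R [] = 1 := rfl

theorem W_cons (p : ℕ × R) (w : List (ℕ × R)) : ρ.W R (p :: w) = ρ.X R p.1 p.2 * ρ.W R w := by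
  simp [W]

theorem W_append (v w : List (ℕ × R)) : ρ.W R (v ++ w) = ρ.W R v * ρ.W R w := by
  simp [W]

theorem W_map (φ : R →+* S) (w : List (ℕ × R)) :
    (ρ.W R w).map φ = ρ.W S (w.map fun p => (p.1, φ p.2)) := by
  induction w with
  | nil => exact Matrix.map_one _ (map_zero φ) (map_one φ)
  | cons p w ih => rw [List.map_cons, W_cons, W_cons, Matrix.map_mul, ih, X_map]

end IntRep

namespace Tab
variable {D : ChevalleyDatum} (T : Tab D)

/-- second divided power of `ad e_r` -/
def adE2 (r : ℕ) : Matrix D.Idx D.Idx ℤ :=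
  Matrix.of fun a b => Sum.elim (fun _ => 0)
    (fun s : Fin D.nroots => (if r + s + 1 = D.nroots then -ev D ℤ r else
      M2 T.N T.P r s • ev D ℤ (T.P r (T.P r s))) a) b

/-- third divided power of `ad e_r` -/
def adE3 (r : ℕ) : Matrix D.Idx D.Idx ℤ :=
  Matrix.of fun a b => Sum.elim (fun _ => 0)
    (fun s : Fin D.nroots => (if r + s + 1 = D.nroots then (0 : D.Idx → ℤ) else
      M3 T.N T.P r s • ev D ℤ (T.P r (T.P r (T.P r s)))) a) b

theorem adE2_bh (r : ℕ) (i : Fin D.rank) : T.adE2 r *ᵥ bh D ℤ i = 0 := by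
  rw [mulVec_bh]; rfl
theorem adE3_bh (r : ℕ) (i : Fin D.rank) : T.adE3 r *ᵥ bh D ℤ i = 0 := by
  rw [mulVec_bh]; rfl
theorem adE2_ev (r : ℕ) {s : ℕ} (hs : s < D.nroots) : T.adE2 r *ᵥ ev D ℤ s =
    if r + s + 1 = D.nroots then -ev D ℤ r else M2 T.N T.P r s • ev D ℤ (T.P r (T.P r s)) := by
  rw [mulVec_ev _ hs]; rfl
theorem adE3_ev (r : ℕ) {s : ℕ} (hs : s < D.nroots) : T.adE3 r *ᵥ ev D ℤ s =
    if r + s + 1 = D.nroots then 0 else M3 T.N T.P r s • ev D ℤ (T.P r (T.P r (T.P r s))) := by
  rw [mulVec_ev _ hs]; rfl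

theorem adE_step {r k : ℕ} (hk : k < D.nroots) (h : r + k + 1 ≠ D.nroots) :
    T.adE r *ᵥ ev D ℤ k = T.N r k • ev D ℤ (T.P r k) := by
  rw [T.adE_ev r hk, brE, if_neg h]

theorem adE_wt {r : ℕ} (hr : r < D.nroots) (a b : D.Idx) (h : T.adE r a b ≠ 0) {i : ℕ}
    (hi : i < D.rank) : adWt D a i = adWt D b i + D.cartan i r := by
  rcases b with j | s
  · have h1 : T.adE r a (Sum.inl j) = ((-D.cartan j r) • ev D ℤ r) a := rfl
    rw [h1] at h
    rcases a with k | u
    · simp [ev] at h
    · have : u.val = r := by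
        by_contra h2; simp [ev, h2] at h
      simp [adWt, this]
  · have h1 : T.adE r a (Sum.inr s) = brE D T.N T.P r s a := rfl
    rw [h1, brE] at h
    split_ifs at h with h2
    · rcases a with k | u
      · have : D.cartan i s = -D.cartan i r := by
          rw [← T.cartan_neg hr hi, ← (T.eq_neg_iff hr).2 h2]
        simp [adWt, this]
      · simp [hv] at h
    · have h0 : T.N r s ≠ 0 := fun h0 => by simp [h0] at h
      rcases a with k | u
      · simp [ev] at h
      · have : u.val = T.P r s := by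
          by_contra h2; simp [ev, h2] at h
        simp [adWt, this, T.cartan_P r hr s s.2 h0 i hi, add_comm]

theorem adL_hv (r : ℕ) :
    T.adL (hv D ℤ r) = Matrix.diagonal fun a => ∑ i : Fin D.rank, cor D r i * adWt D a i := by
  rw [hv_eq_sum, map_sum]
  ext a b
  simp only [map_smul, adL_bh, Matrix.sum_apply, Matrix.smul_apply, Matrix.diagonal_apply]
  split_ifs <;> simp

/-- the adjoint representation -/
def adRep : IntRep T D.Idx where
  μ := adWt D
  e := T.adE
  e2 := T.adE2
  e3 := T.adE3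
  he2 r hr := by
    refine mat_ext (fun i => ?_) (fun s hs => ?_)
    · rw [← mulVec_mulVec, adE_bh, mulVec_smul, T.adE_ev r hr, T.brE_self hr, smul_mulVec,
        adE2_bh, smul_zero, smul_zero]
    · rw [← mulVec_mulVec, smul_mulVec, T.adE2_ev r hs, T.adE_ev r hs, brE]
      split_ifs with h
      · rw [adE_hv, T.pair_self r hr, neg_smul, smul_neg]
      · by_cases h0 : T.N r s = 0
        · simp [h0, M2]
        · rw [mulVec_smul, T.adE_step (T.P_lt hr hs h0) (T.P_ne_neg hr hs h0), smul_smul,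
            smul_smul, T.two_M2 hr hs]
  he3 r hr := by
    refine mat_ext (fun i => ?_) (fun s hs => ?_)
    · rw [← mulVec_mulVec, adE2_bh, smul_mulVec, adE3_bh, smul_zero, mulVec_zero]
    · rw [← mulVec_mulVec, smul_mulVec, T.adE2_ev r hs, T.adE3_ev r hs]
      split_ifs with h
      · rw [mulVec_neg, T.adE_ev r hr, T.brE_self hr]; simp
      · by_cases h0 : M2 T.N T.P r s = 0
        · have h3 := T.three_M3 hr hs
          rw [h0, zero_mul] at h3
          rw [h0, smul_smul, h3]; simp
        · obtain ⟨h1, h2⟩ := T.M2_ne h0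
          have h3 := T.P_lt hr hs h1
          rw [mulVec_smul, T.adE_step (T.P_lt hr h3 h2) (T.P_ne_neg hr h3 h2), smul_smul,
            smul_smul, T.three_M3 hr hs]
  he4 r hr := by
    refine mat_ext (fun i => ?_) (fun s hs => ?_)
    · rw [← mulVec_mulVec, adE3_bh, mulVec_zero, zero_mulVec]
    · rw [← mulVec_mulVec, T.adE3_ev r hs, zero_mulVec]
      split_ifs with h
      · rw [mulVec_zero]
      · by_cases h0 : M3 T.N T.P r s = 0
        · rw [h0]; simp
        · obtain ⟨h1, h2, h3⟩ := T.M3_ne h0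
          have h4 := T.P_lt hr (T.P_lt hr hs h1) h2
          rw [mulVec_smul, T.adE_step (T.P_lt hr h4 h3) (T.P_ne_neg hr h4 h3), smul_smul,
            T.M3_end hr hs, zero_smul]
  wt r hr a b h i hi := T.adE_wt hr a b h hi
  rel_neg r hr := by
    rw [T.adE_comm hr (T.neg_lt hr), brE, if_pos (by have := T.neg_eq r hr; omega), adL_hv]
  rel r hr s hs h := by
    rw [T.adE_comm hr hs, brE, if_neg h, map_smul]
    by_cases h0 : T.N r s = 0
    · simp [h0]
    · rw [T.adL_ev (T.P_lt hr hs h0)]

variable {R : Type*} [CommRing R]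

theorem adX_mulVec {r : ℕ} (hr : r < D.nroots) (t : R) (v : D.Idx → ℤ) :
    T.adRep.X R r t *ᵥ cstV R v = cstV R v + t • cstV R (T.adE r *ᵥ v) +
      t ^ 2 • cstV R (T.adE2 r *ᵥ v) + t ^ 3 • cstV R (T.adE3 r *ᵥ v) := by
  rw [IntRep.X_of_lt _ hr]
  simp only [add_mulVec, one_mulVec, smul_mulVec, cst_mulVec]
  rfl

theorem adX_bh {r : ℕ} (hr : r < D.nroots) (t : R) (i : Fin D.rank) :
    T.adRep.X R r t *ᵥ bh D R i = bh D R i - ((D.cartan i r : R) * t) • ev D R r := by
  rw [← cstV_bh, T.adX_mulVec hr, adE_bh, adE2_bh, adE3_bh, cstV_zero, cstV_smul, cstV_ev]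
  push_cast
  module

theorem adX_hv {r : ℕ} (hr : r < D.nroots) (t : R) (s : ℕ) :
    T.adRep.X R r t *ᵥ hv D R s = hv D R s - ((D.pairing s r : R) * t) • ev D R r := by
  rw [hv_eq_sum, mulVec_sum, pairing_eq_sum_fin]
  simp only [mulVec_smul, T.adX_bh hr, smul_sub, Finset.sum_sub_distrib, smul_smul]
  push_cast
  rw [Finset.sum_mul, Finset.sum_smul]
  simp only [mul_assoc]

theorem adX_ev {r s : ℕ} (hr : r < D.nroots) (hs : s < D.nroots) (h : r + s + 1 ≠ D.nroots)
    (t : R) : T.adRep.X R r t *ᵥ ev D R s = ev D R s + ((T.N r s : R) * t) • ev D R (T.P r s) +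
      ((M2 T.N T.P r s : R) * t ^ 2) • ev D R (T.P r (T.P r s)) +
      ((M3 T.N T.P r s : R) * t ^ 3) • ev D R (T.P r (T.P r (T.P r s))) := by
  rw [← cstV_ev, T.adX_mulVec hr, T.adE_step hs h, T.adE2_ev r hs, T.adE3_ev r hs, if_neg h,
    if_neg h]
  simp only [cstV_smul, cstV_ev]
  module

theorem adX_ev_self {r : ℕ} (hr : r < D.nroots) (t : R) :
    T.adRep.X R r t *ᵥ ev D R r = ev D R r := by
  rw [T.adX_ev hr hr (T.self_ne hr)]
  simp [T.N_self hr, M2, M3]

theorem adX_ev_neg {r : ℕ} (hr : r < D.nroots) (t : R) :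
    T.adRep.X R r t *ᵥ ev D R (D.neg r) = ev D R (D.neg r) + t • hv D R r - t ^ 2 • ev D R r := by
  have h : r + D.neg r + 1 = D.nroots := by have := T.neg_eq r hr; omega
  have hs := T.neg_lt hr
  rw [← cstV_ev, T.adX_mulVec hr, T.adE_ev r hs, T.adE2_ev r hs, T.adE3_ev r hs, brE, if_pos h,
    if_pos h, if_pos h]
  simp only [cstV_neg, cstV_ev, cstV_hv, cstV_zero]
  module

theorem chainCoeff_sum {F : Type*} [Field F] {r s : ℕ} (hr : r < D.nroots) (hs : s < D.nroots)
    (u : ℕ) (t : F) :
    ((D.chainCoeff r s u).map fun km => ((km.2 : ℤ) : F) * t ^ km.1).sum =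
      (T.N r s : F) * t * (if u = T.P r s then 1 else 0) +
      (M2 T.N T.P r s : F) * t ^ 2 * (if u = T.P r (T.P r s) then 1 else 0) +
      (M3 T.N T.P r s : F) * t ^ 3 * (if u = T.P r (T.P r (T.P r s)) then 1 else 0) := by
  rw [chainCoeff_eq_of (T.chain_eq r hr) hs]
  unfold mkEntry M2 M3
  by_cases h0 : T.N r s = 0
  · simp [h0]
  by_cases h1 : T.N r (T.P r s) = 0
  · simp only [h0, h1, if_true, if_false, List.zipIdx, List.filter_cons, eq_comm (a := u)]
    split_ifs <;> simp_all
  by_cases h2 : T.N r (T.P r (T.P r s)) = 0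
  · simp only [h0, h1, h2, if_true, if_false, List.zipIdx, List.filter_cons, eq_comm (a := u),
      decide_eq_true_eq]
    split_ifs <;> simp
  · simp only [h0, h1, h2, if_false, List.zipIdx, List.filter_cons, eq_comm (a := u),
      decide_eq_true_eq]
    split_ifs <;> simp [add_assoc]

/-- The root elements of the datum are those of the adjoint representation. -/
theorem x_eq_adX (F : Type*) [Field F] (r : ℕ) (t : F) : D.x F r t = T.adRep.X F r t := by
  unfold ChevalleyDatum.x
  split_ifs with hr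
  swap
  · rw [IntRep.X, if_neg hr]
  refine mat_ext (fun i => ?_) (fun s hs => ?_)
  · rw [T.adX_bh hr, mulVec_bh]
    funext a
    rcases a with j | u
    · simp [ChevalleyDatum.xMat, bh, ev, Pi.single_apply]
    · simp [ChevalleyDatum.xMat, bh, ev, Fin.ext_iff, ChevalleyDatum.cartan]
      split_ifs <;> simp
  · rw [mulVec_ev _ hs]
    by_cases h1 : s = r
    · subst h1
      rw [T.adX_ev_self hs]
      funext a
      rcases a with j | u
      · simp [ChevalleyDatum.xMat, ev]
      · simp [ChevalleyDatum.xMat, ev, Fin.ext_iff]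
    by_cases h2 : s = D.neg r
    · subst h2
      rw [T.adX_ev_neg hr]
      have h3 : D.neg r = D.negIdx.getD r 0 := rfl
      funext a
      rcases a with j | u
      · simp only [ChevalleyDatum.xMat, Matrix.of_apply, Fin.ext_iff, h1, if_false, ← h3, if_true]
        simp [ev, hv, cor, mul_comm]
      · simp only [ChevalleyDatum.xMat, Matrix.of_apply, Fin.ext_iff, h1, if_false, ← h3, if_true]
        by_cases h4 : u.val = D.neg r
        · have h5 : ¬ u.val = r := by rw [h4]; exact h1
          simp [ev, hv, h4, h1]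
        · simp [ev, hv, h4]
          split_ifs <;> simp
    · rw [T.adX_ev hr hs (fun h => h2 ((T.eq_neg_iff hr).2 h))]
      have h3 : ¬ s = D.negIdx.getD r 0 := h2
      funext a
      rcases a with j | u
      · simp only [ChevalleyDatum.xMat, Matrix.of_apply, Fin.ext_iff, h1, if_false, h3]
        simp [ev]
      · simp only [ChevalleyDatum.xMat, Matrix.of_apply, Fin.ext_iff, h1, if_false, h3,
          T.chainCoeff_sum hr hs]
        simp only [ev, Pi.add_apply, Pi.smul_apply, Sum.elim_inr, smul_eq_mul]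
        ring

theorem wordMat_eq_adW (F : Type*) [Field F] (w : List (ℕ × F)) :
    D.wordMat F w = T.adRep.W F w := by
  unfold ChevalleyDatum.wordMat IntRep.W
  simp only [T.x_eq_adX]

end Tab

end Cfsg.Agent.Chev
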