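/-
Relations between root elements in characteristic zero: additivity, the adjoint formula and the
commutator formula.
-/
import Cfsg.Agent.Chev.RepDefs
import Cfsg.Agent.Chev.LieChain
import Cfsg.Agent.Chev.ExpLemmas

set_option autoImplicit false

namespace Cfsg.Agent.Chev
open Cfsg.Lie Matrix IsNilpotent

/-- matrices as rational-linear endomorphisms -/
def matToEnd (I : Type) [Fintype I] [DecidableEq I] (K : Type*) [Field K] [CharZero K] :
    Matrix I I K →+* Module.End ℚ (I → K) where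
  toFun M :=
    { toFun := fun v => M *ᵥ v
      map_add' := mulVec_add M
      map_smul' := fun q v => by
        simp only [RingHom.id_apply, ← Rat.cast_smul_eq_qsmul K q, mulVec_smul] }
  map_one' := by ext v; simp
  map_mul' M N := LinearMap.ext fun v => (mulVec_mulVec v M N).symm
  map_zero' := by ext v; simp
  map_add' M N := by ext v; simp [add_mulVec]

namespace IntRep
variable {D : ChevalleyDatum} {T : Tab D} {J : Type} [Fintype J] [DecidableEq J] (ρ : IntRep T J)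

/-- the root vector over `R` -/
def E (R : Type*) [CommRing R] (r : ℕ) : Matrix J J R := cst R (ρ.e r)

/-- the representation as a linear map -/
def lin (R : Type*) [CommRing R] : (D.Idx → R) →ₗ[R] Matrix J J R :=
  Fintype.linearCombination R (Sum.elim
    (fun i : Fin D.rank => Matrix.diagonal fun a => (ρ.μ a i : R)) (fun r : Fin D.nroots => ρ.E R r))

section Ring
variable {R : Type*} [CommRing R]

theorem lin_bh (i : Fin D.rank) : ρ.lin R (bh D R i) = Matrix.diagonal fun a => (ρ.μ a i : R) := by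
  simp [lin, bh]

theorem lin_ev {r : ℕ} (hr : r < D.nroots) : ρ.lin R (ev D R r) = ρ.E R r := by
  simp [lin, ev_eq_single hr]

theorem lin_hv (r : ℕ) : ρ.lin R (hv D R r) = Matrix.diagonal fun a => (ρ.m r a : R) := by
  rw [hv_eq_sum, map_sum]
  ext a b
  simp only [map_smul, lin_bh, Matrix.sum_apply, Matrix.smul_apply, Matrix.diagonal_apply, m]
  split_ifs <;> simp

theorem E_comm {r s : ℕ} (hr : r < D.nroots) (hs : s < D.nroots) (h : r + s + 1 ≠ D.nroots) :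
    ρ.E R r * ρ.E R s - ρ.E R s * ρ.E R r = (T.N r s : R) • ρ.E R (T.P r s) := by
  rw [E, E, E, ← cst_mul, ← cst_mul, ← cst_sub, ρ.rel r hr s hs h, cst_smul]

theorem E_comm_neg {r : ℕ} (hr : r < D.nroots) :
    ρ.E R r * ρ.E R (D.neg r) - ρ.E R (D.neg r) * ρ.E R r =
      Matrix.diagonal fun a => (ρ.m r a : R) := by
  rw [E, E, ← cst_mul, ← cst_mul, ← cst_sub, ρ.rel_neg r hr, cst_diagonal]; rfl

theorem E_pow_four (r : ℕ) (hr : r < D.nroots) : ρ.E R r ^ 4 = 0 := by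
  have : ρ.e r * (ρ.e r * (ρ.e r * ρ.e r)) = 0 := by
    rw [ρ.he2 r hr, Matrix.mul_smul, ρ.he3 r hr, Matrix.mul_smul, Matrix.mul_smul, ρ.he4 r hr]
    simp
  have h := congrArg (cst R) this
  rw [cst_mul, cst_mul, cst_mul, cst_zero] at h
  rw [← h, E]
  noncomm_ring

theorem E_nil {r : ℕ} (hr : r < D.nroots) (t : R) : IsNilpotent (t • ρ.E R r) :=
  IsNilpotent.smul ⟨4, ρ.E_pow_four r hr⟩ t

theorem E_lin {r : ℕ} (hr : r < D.nroots) (v : D.Idx → R) :
    ρ.E R r * ρ.lin R v - ρ.lin R v * ρ.E R r = ρ.lin R (cst R (T.adE r) *ᵥ v) := by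
  induction v using vec_ind with
  | h0 => simp
  | hadd v w h1 h2 => rw [mulVec_add, map_add, map_add, ← h1, ← h2]; noncomm_ring
  | hsmul c v h =>
    rw [mulVec_smul, map_smul, map_smul, ← h, Matrix.mul_smul, Matrix.smul_mul, smul_sub]
  | hh i =>
    rw [← cstV_bh, cst_mulVec, T.adE_bh, cstV_smul, cstV_ev, cstV_bh, map_smul, lin_bh,
      ρ.lin_ev hr]
    ext a b
    simp only [Matrix.sub_apply, mul_diagonal, diagonal_mul, Matrix.smul_apply, smul_eq_mul, E, cst,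
      Matrix.map_apply, eq_intCast]
    by_cases h : ρ.e r a b = 0
    · simp [h]
    · rw [ρ.wt r hr a b h i i.2]; push_cast; ring
  | he s hs =>
    rw [← cstV_ev, cst_mulVec, T.adE_ev r hs, cstV_ev, ρ.lin_ev hs, brE]
    split_ifs with h
    · rw [cstV_hv, lin_hv, (T.eq_neg_iff hr).2 h, ρ.E_comm_neg hr]
    · rw [ρ.E_comm hr hs h, cstV_smul, cstV_ev, map_smul]
      by_cases h0 : T.N r s = 0
      · simp [h0]
      · rw [ρ.lin_ev (T.P_lt hr hs h0)]

theorem lin_smul_ev {k : ℕ} {c : R} (h : c = 0 ∨ k < D.nroots) :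
    ρ.lin R (c • ev D R k) = c • ρ.E R k := by
  rcases h with h | h
  · simp [h]
  · rw [map_smul, ρ.lin_ev h]

end Ring

variable {K : Type*} [Field K] [CharZero K]

theorem X_eq_exp {r : ℕ} (hr : r < D.nroots) (t : K) : ρ.X K r t = exp (t • ρ.E K r) := by
  have h4 : (t • ρ.E K r) ^ 4 = 0 := by rw [smul_pow, ρ.E_pow_four r hr, smul_zero]
  have h2 : ρ.E K r ^ 2 = (2 : K) • cst K (ρ.e2 r) := by
    rw [pow_two, E, ← cst_mul, ρ.he2 r hr, cst_smul]; norm_num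
  have h3 : ρ.E K r ^ 3 = (6 : K) • cst K (ρ.e3 r) := by
    rw [_root_.pow_succ', h2, Matrix.mul_smul, E, ← cst_mul, ρ.he3 r hr, cst_smul, smul_smul]
    norm_num
  rw [exp_eq_sum h4, ρ.X_of_lt hr]
  simp only [Finset.sum_range_succ, Finset.sum_range_zero, smul_pow, h2, h3,
    ← Rat.cast_smul_eq_qsmul K, smul_smul, pow_zero, pow_one]
  rw [E]
  norm_num [Nat.factorial]
  module

theorem X_eq_exp' {r : ℕ} {t : K} (h : t = 0 ∨ r < D.nroots) :
    ρ.X K r t = exp (t • ρ.E K r) := by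
  rcases h with h | h
  · rw [h, X_zero, zero_smul, exp_zero]
  · exact ρ.X_eq_exp h t

theorem E_nil' {r : ℕ} {t : K} (h : t = 0 ∨ r < D.nroots) : IsNilpotent (t • ρ.E K r) := by
  rcases h with h | h
  · rw [h, zero_smul]; exact IsNilpotent.zero
  · exact ρ.E_nil h t

theorem X_add0 (r : ℕ) (t u : K) : ρ.X K r t * ρ.X K r u = ρ.X K r (t + u) := by
  by_cases hr : r < D.nroots
  · rw [ρ.X_eq_exp hr, ρ.X_eq_exp hr, ρ.X_eq_exp hr, add_smul,
      exp_add_of_commute (((Commute.refl _).smul_left t).smul_right u) (ρ.E_nil hr t)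
        (ρ.E_nil hr u)]
  · simp [X, hr]

/-- The adjoint formula. -/
theorem X_lin {r : ℕ} (hr : r < D.nroots) (t : K) (v : D.Idx → K) :
    ρ.X K r t * ρ.lin K v = ρ.lin K (T.adRep.X K r t *ᵥ v) * ρ.X K r t := by
  have hn := T.adRep.E_nil hr t
  have h := exp_mul_rep ((ρ.lin K).restrictScalars ℚ) (ρ.E_nil hr t)
    (hn.map (matToEnd D.Idx K)) (fun v => by
      show _ = ρ.lin K ((t • cst K (T.adE r)) *ᵥ v)
      rw [smul_mulVec, map_smul, ← ρ.E_lin hr, smul_sub, Matrix.smul_mul, Matrix.mul_smul]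
      rfl) v
  rw [← map_exp hn, ← ρ.X_eq_exp hr, ← T.adRep.X_eq_exp hr] at h
  exact h

theorem brY {p q c : ℕ} {α β : K}
    (h : α * β = 0 ∨ (p < D.nroots ∧ q < D.nroots ∧ BrC D.nroots T.N T.P p q c)) :
    (α • ρ.E K p) * (β • ρ.E K q) - (β • ρ.E K q) * (α • ρ.E K p) =
      (α * β * T.N p q) • ρ.E K c := by
  rw [smul_mul_smul_comm, smul_mul_smul_comm, mul_comm β α, ← smul_sub]
  rcases h with h | ⟨hp, hq, h1, h2⟩
  · rw [h]; simp
  · rw [ρ.E_comm hp hq h1, smul_smul]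
    rcases h2 with h2 | h2
    · simp [h2]
    · rw [h2]

theorem comY {q c : ℕ} (γ : K) {β : K} (hc : c < D.nroots)
    (h : β = 0 ∨ (q < D.nroots ∧ Com D.nroots T.N c q)) :
    Commute (γ • ρ.E K c) (β • ρ.E K q) := by
  rcases h with h | ⟨hq, h1, h2⟩
  · rw [h, zero_smul]; exact Commute.zero_right _
  · have := ρ.E_comm (R := K) hc hq h2
    rw [h1, Int.cast_zero, zero_smul, sub_eq_zero] at this
    exact (Commute.smul_left this γ).smul_right β

theorem exp_half {c : ℕ} (hc : c < D.nroots) (s : K) :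
    exp ((-(1 / 2) : ℚ) • (s • ρ.E K c)) = ρ.X K c (-(1 / 2) * s) := by
  rw [ρ.X_eq_exp hc, ← Rat.cast_smul_eq_qsmul K, smul_smul]
  norm_num

/-- conjugating `x_b(υ)` by `x_a(τ)` when the chain spans an algebra of class two -/
theorem conj_cond {a b c : ℕ} (ha : a < D.nroots) (hb : b < D.nroots) (hN : T.N a b ≠ 0)
    (hc : Cond D.nroots T.N T.P a b c) (τ υ : K) :
    let k1 := T.P a b
    let k2 := T.P a k1
    let k3 := T.P a k2
    let α1 : K := υ * (T.N a b * τ)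
    let α2 : K := υ * (M2 T.N T.P a b * τ ^ 2)
    let α3 : K := υ * (M3 T.N T.P a b * τ ^ 3)
    let s0 : K := υ * α1 * T.N b k1 + υ * α2 * T.N b k2 + υ * α3 * T.N b k3
    let s1 : K := α1 * α2 * T.N k1 k2 + α1 * α3 * T.N k1 k3 + α2 * α3 * T.N k2 k3
    ρ.X K a τ * ρ.X K b υ = ρ.X K b υ * (ρ.X K k1 α1 * ρ.X K k2 α2 * ρ.X K k3 α3 *
        ρ.X K c (-(1 / 2) * (s1 + s0))) * ρ.X K a τ ∧
      ρ.X K a τ * ρ.X K b υ = (ρ.X K k1 α1 * ρ.X K k2 α2 * ρ.X K k3 α3 *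
        ρ.X K c (-(1 / 2) * (s1 - s0))) * ρ.X K b υ * ρ.X K a τ := by
  intro k1 k2 k3 α1 α2 α3 s0 s1
  have hab : a + b + 1 ≠ D.nroots := fun h => hN (T.N_of_neg ha hb h)
  have l1 : k1 < D.nroots := T.P_lt ha hb hN
  obtain ⟨hc0, b01, cb, c1, hc2⟩ := hc
  have d2 : α2 = 0 ∨ (k2 < D.nroots ∧ BrC D.nroots T.N T.P b k2 c ∧ BrC D.nroots T.N T.P k1 k2 c ∧
      Com D.nroots T.N c k2) := by
    by_cases h : T.N a k1 = 0
    · left; simp [α2, M2, k1] at h ⊢; simp [h]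
    · right; exact ⟨T.P_lt ha l1 h, (hc2 h).1, (hc2 h).2.1, (hc2 h).2.2.1⟩
  have d3 : α3 = 0 ∨ (k2 < D.nroots ∧ k3 < D.nroots ∧ BrC D.nroots T.N T.P b k3 c ∧
      BrC D.nroots T.N T.P k1 k3 c ∧ BrC D.nroots T.N T.P k2 k3 c ∧ Com D.nroots T.N c k3) := by
    by_cases h : T.N a k1 = 0
    · left; simp [α3, M3, k1] at h ⊢; simp [h]
    by_cases h' : T.N a k2 = 0
    · left; simp [α3, M3, k1, k2] at h' ⊢; simp [h']
    · right; exact ⟨T.P_lt ha l1 h, T.P_lt ha (T.P_lt ha l1 h) h', (hc2 h).2.2.2 h'⟩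
  have l2 : α2 = 0 ∨ k2 < D.nroots := d2.imp_right fun h => h.1
  have l3 : α3 = 0 ∨ k3 < D.nroots := d3.imp_right fun h => h.2.1
  set y0 := υ • ρ.E K b with hy0
  set y1 := α1 • ρ.E K k1 with hy1
  set y2 := α2 • ρ.E K k2 with hy2
  set y3 := α3 • ρ.E K k3 with hy3
  have e01 : y0 * y1 - y1 * y0 = (υ * α1 * T.N b k1) • ρ.E K c := ρ.brY (Or.inr ⟨hb, l1, b01⟩)
  have e02 : y0 * y2 - y2 * y0 = (υ * α2 * T.N b k2) • ρ.E K c :=
    ρ.brY (d2.imp (fun h => by rw [h, mul_zero]) fun h => ⟨hb, h.1, h.2.1⟩)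
  have e03 : y0 * y3 - y3 * y0 = (υ * α3 * T.N b k3) • ρ.E K c :=
    ρ.brY (d3.imp (fun h => by rw [h, mul_zero]) fun h => ⟨hb, h.2.1, h.2.2.1⟩)
  have e12 : y1 * y2 - y2 * y1 = (α1 * α2 * T.N k1 k2) • ρ.E K c :=
    ρ.brY (d2.imp (fun h => by rw [h, mul_zero]) fun h => ⟨l1, h.1, h.2.2.1⟩)
  have e13 : y1 * y3 - y3 * y1 = (α1 * α3 * T.N k1 k3) • ρ.E K c :=
    ρ.brY (d3.imp (fun h => by rw [h, mul_zero]) fun h => ⟨l1, h.2.1, h.2.2.2.1⟩)
  have e23 : y2 * y3 - y3 * y2 = (α2 * α3 * T.N k2 k3) • ρ.E K c :=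
    ρ.brY (d3.imp (fun h => by rw [h, mul_zero]) fun h => ⟨h.1, h.2.1, h.2.2.2.2.1⟩)
  have k0 : ∀ γ : K, Commute (γ • ρ.E K c) y0 := fun γ => ρ.comY γ hc0 (Or.inr ⟨hb, cb⟩)
  have k1' : ∀ γ : K, Commute (γ • ρ.E K c) y1 := fun γ => ρ.comY γ hc0 (Or.inr ⟨l1, c1⟩)
  have k2' : ∀ γ : K, Commute (γ • ρ.E K c) y2 := fun γ =>
    ρ.comY γ hc0 (d2.imp_right fun h => ⟨h.1, h.2.2.2⟩)
  have k3' : ∀ γ : K, Commute (γ • ρ.E K c) y3 := fun γ =>
    ρ.comY γ hc0 (d3.imp_right fun h => ⟨h.2.1, h.2.2.2.2.2⟩)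
  obtain ⟨nil, f1, f2⟩ := exp_four (y0 := y0) (y1 := y1) (y2 := y2) (y3 := y3)
    (c0 := s0 • ρ.E K c) (c1 := (α1 * α2 * T.N k1 k2 + α1 * α3 * T.N k1 k3) • ρ.E K c)
    (c2 := (α2 * α3 * T.N k2 k3) • ρ.E K c)
    (ρ.E_nil hb υ) (ρ.E_nil l1 α1) (ρ.E_nil' l2) (ρ.E_nil' l3) (ρ.E_nil hc0 _) (ρ.E_nil hc0 _)
    (ρ.E_nil hc0 _)
    (by simp only [s0, add_smul, ← e01, ← e02, ← e03]; noncomm_ring)
    (by simp only [add_smul, ← e12, ← e13]; noncomm_ring) e23
    (k0 _) (k1' _) (k2' _) (k3' _) (k1' _) (k2' _) (k3' _) (k2' _) (k3' _)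
  have ad : ρ.X K a τ * y0 = (y0 + (y1 + (y2 + y3))) * ρ.X K a τ := by
    have h := ρ.X_lin ha τ (υ • ev D K b)
    rw [ρ.lin_smul_ev (Or.inr hb), mulVec_smul, T.adX_ev ha hb hab, smul_add, smul_add, smul_add,
      smul_smul, smul_smul, smul_smul, map_add, map_add, map_add, ρ.lin_smul_ev (Or.inr hb),
      ρ.lin_smul_ev (Or.inr l1), ρ.lin_smul_ev l2, ρ.lin_smul_ev l3] at h
    rw [h, add_assoc, add_assoc]
  have ad2 := exp_semiconj (ρ.E_nil hb υ) nil ad
  rw [← ρ.X_eq_exp hb] at ad2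
  have cb' : ∀ γ : K, Commute (ρ.X K c γ) (ρ.X K b υ) := fun γ => by
    rw [ρ.X_eq_exp hc0, ρ.X_eq_exp hb]
    exact commute_exp_exp (ρ.E_nil hc0 _) (ρ.E_nil hb _) (k0 γ)
  rw [← neg_smul] at f2
  rw [ρ.exp_half hc0, ρ.exp_half hc0, ρ.exp_half hc0, ← ρ.X_eq_exp hb, ← ρ.X_eq_exp l1,
    ← ρ.X_eq_exp' l2, ← ρ.X_eq_exp' l3] at f1 f2
  constructor
  · have e : -(1 / 2) * (s1 + s0) = -(1 / 2) * (α2 * α3 * T.N k2 k3) +
        (-(1 / 2) * (α1 * α2 * T.N k1 k2 + α1 * α3 * T.N k1 k3) + -(1 / 2) * s0) := by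
      simp only [s1]; ring
    rw [ad2, f1, e, ← X_add0, ← X_add0]
    simp only [mul_assoc]
  · have e : -(1 / 2) * (s1 - s0) = -(1 / 2) * (α2 * α3 * T.N k2 k3) +
        (-(1 / 2) * (α1 * α2 * T.N k1 k2 + α1 * α3 * T.N k1 k3) + -(1 / 2) * -s0) := by
      simp only [s1]; ring
    rw [ad2, f2, e, ← X_add0, ← X_add0, mul_assoc _ (ρ.X K b υ), ← (cb' _).eq]
    simp only [mul_assoc]

theorem left_of_conj {r s : ℕ} {t u : K} {Q : Matrix J J K}
    (h : ρ.X K r (-t) * ρ.X K s u = ρ.X K s u * Q * ρ.X K r (-t)) :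
    ρ.X K s u * ρ.X K r t = ρ.X K r t * ρ.X K s u * Q := by
  calc ρ.X K s u * ρ.X K r t = ρ.X K r t * (ρ.X K r (-t) * ρ.X K s u) * ρ.X K r t := by
        rw [← mul_assoc, X_add0, add_neg_cancel, X_zero, one_mul]
    _ = ρ.X K r t * ρ.X K s u * Q * (ρ.X K r (-t) * ρ.X K r t) := by
        rw [h]; simp only [mul_assoc]
    _ = _ := by rw [X_add0, neg_add_cancel, X_zero, mul_one]

theorem right_of_conj {r s : ℕ} {t u : K} {Q : Matrix J J K}
    (h : ρ.X K s (-u) * ρ.X K r (-t) = Q * ρ.X K r (-t) * ρ.X K s (-u)) :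
    ρ.X K s u * ρ.X K r t = ρ.X K r t * ρ.X K s u * Q := by
  calc ρ.X K s u * ρ.X K r t
        = ρ.X K r t * (ρ.X K s u * (ρ.X K s (-u) * ρ.X K r (-t))) * ρ.X K s u * ρ.X K r t := by
        rw [← mul_assoc (ρ.X K s u), X_add0, add_neg_cancel, X_zero, one_mul, X_add0,
          add_neg_cancel, X_zero, one_mul]
    _ = ρ.X K r t * ρ.X K s u * Q * (ρ.X K r (-t) * (ρ.X K s (-u) * ρ.X K s u) * ρ.X K r t) := by
        rw [h]; simp only [mul_assoc]
    _ = _ := by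
        rw [X_add0, neg_add_cancel, X_zero, mul_one, X_add0, neg_add_cancel, X_zero, mul_one]

theorem _root_.Cfsg.Agent.Chev.Tab.cond_A (T : Tab D) {r s : ℕ} (hr : r < D.nroots)
    (hs : s < D.nroots) (h : T.N r s ≠ 0) (h1 : T.N r (T.P r s) = 0) (h2 : T.N s (T.P r s) = 0) :
    Cond D.nroots T.N T.P r s (T.P r s) := by
  have l1 := T.P_lt hr hs h
  have h' : T.N s r ≠ 0 := by rw [T.N_anti hr hs]; simpa using h
  have e := T.P_ne_neg hs hr h'
  rw [T.P_comm hr hs h] at e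
  refine ⟨l1, ⟨e, Or.inl h2⟩, ⟨by rw [T.N_anti hs l1, h2, neg_zero], by omega⟩,
    ⟨T.N_self l1, T.self_ne l1⟩, fun h3 => absurd h1 h3⟩

/-- Chevalley's commutator formula in characteristic zero. -/
theorem comm_formula0 {r s : ℕ} (hr : r < D.nroots) (hs : s < D.nroots)
    (hneg : r + s + 1 ≠ D.nroots) (t u : K) :
    ρ.X K s u * ρ.X K r t = ρ.X K r t * ρ.X K s u * ρ.W K (D.commWord K r s t u) := by
  unfold ChevalleyDatum.commWord
  by_cases h : T.N r s = 0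
  · rw [T.commTerms_zero hr hs h, List.map_nil, W_nil, mul_one, ρ.X_eq_exp hr, ρ.X_eq_exp hs]
    exact (commute_exp_exp (ρ.E_nil hr _) (ρ.E_nil hs _)
      (ρ.comY t hr (Or.inr ⟨hs, h, hneg⟩))).eq.symm
  have h' : T.N s r ≠ 0 := by rw [T.N_anti hr hs]; simpa using h
  have hP := T.P_comm hr hs h
  have hA : (T.N s r : K) = -T.N r s := by rw [T.N_anti hr hs]; push_cast; rfl
  rcases T.pairOK hr hs h with ⟨h1, h2⟩ | ⟨h1, h1', h2, hc, z1, z2⟩ |
    ⟨h1, h1', h2, h2', hc, z1, z2⟩ | ⟨h1, h1', h2, h3, hc, z1, z2, z3, hC⟩ |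
    ⟨h1, h2, h2', hc, z1, z2⟩ | ⟨h1, h2, h2', h3, hc, z1, z2, z3, hC⟩
  · have := ρ.left_of_conj (ρ.conj_cond hr hs h (T.cond_A hr hs h h1 h2) (-t) u).1
    rw [this, T.commTerms_A hr hs h h1 h2]
    simp only [M2, M3, h1, h2, W, List.map_cons, List.map_nil, List.prod_cons, List.prod_nil]
    simp [X_zero, mul_comm u]
  · have := ρ.left_of_conj (ρ.conj_cond hr hs h hc (-t) u).1
    rw [this, T.commTerms_B1 hr hs h h1 h1' h2]
    simp only [M3, h1', h2, z1, z2, W, List.map_cons, List.map_nil, List.prod_cons, List.prod_nil]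
    simp [X_zero, mul_comm u]
  · have := ρ.left_of_conj (ρ.conj_cond hr hs h hc (-t) u).1
    rw [this, T.commTerms_C hr hs h h1 h1' h2 h2']
    simp only [M3, h1', z1, z2, W, List.map_cons, List.map_nil, List.prod_cons, List.prod_nil]
    have e : (M2 T.N T.P s r : K) = -(1 / 2) * (T.N r s * T.N s (T.P r s)) := by
      have := congrArg (Int.cast : ℤ → K) (T.two_M2 hs hr)
      push_cast at this
      rw [hP, hA] at this
      linear_combination (1 / 2) * this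
    simp only [mul_zero, zero_mul, Int.zero_ediv, Int.cast_zero, X_zero, mul_one, e, mul_assoc]
    congr 3
    · congr 1; ring
    · congr 1
      · congr 1; ring
      · congr 1; ring
  · have := ρ.left_of_conj (ρ.conj_cond hr hs h hc (-t) u).1
    rw [this, T.commTerms_G1 hr hs h h1 h1' h2 h3]
    simp only [h2, z1, z2, z3, W, List.map_cons, List.map_nil, List.prod_cons, List.prod_nil]
    have e := congrArg (Int.cast : ℤ → K) hC
    rw [Int.cast_mul] at e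
    generalize M2 T.N T.P (T.P r s) r / 3 = C at e ⊢
    push_cast at e
    simp only [mul_one, mul_assoc]
    congr 3
    · congr 1; ring
    · congr 1
      · congr 1; ring
      · congr 1
        · congr 1; ring
        · congr 1
          push_cast
          linear_combination (-(1 / 2) * (-t) ^ 3 * u ^ 2) * e
  · rw [← hP] at hc
    have := ρ.right_of_conj (ρ.conj_cond hs hr h' hc (-u) (-t)).2
    rw [this, T.commTerms_B2 hr hs h h1 h2 h2']
    simp only [hP, M3, h1, h2', z1, z2, W, List.map_cons, List.map_nil, List.prod_cons,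
      List.prod_nil, hA]
    simp only [mul_zero, zero_mul, Int.zero_ediv, Int.cast_zero, X_zero, mul_one, add_zero,
      sub_zero]
    congr 2
    · congr 1; ring
    · congr 1; ring
  · have := ρ.right_of_conj (ρ.conj_cond hs hr h' hc (-u) (-t)).2
    rw [this, T.commTerms_G2 hr hs h h1 h2 h2' h3]
    have k3 := T.P_lt hs (T.P_lt hs (T.P_lt hr hs h) h2) h2'
    simp only [hP, h1, z1, z2, z3, W, List.map_cons, List.map_nil, List.prod_cons, List.prod_nil,
      T.N_anti k3 hr]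
    have e := congrArg (Int.cast : ℤ → K) hC
    rw [Int.cast_mul] at e
    generalize -2 * M2 T.N T.P (T.P r s) s / 3 = C at e ⊢
    push_cast at e
    simp only [mul_one, mul_assoc]
    congr 3
    · congr 1; rw [hA]; ring
    · congr 1
      · congr 1; ring
      · congr 1
        · congr 1; push_cast; ring
        · congr 1
          push_cast
          linear_combination (-(1 / 2) * (-t) ^ 2 * u ^ 3) * e

end IntRep

end Cfsg.Agent.Chev
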