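/-
The elements `n_r(t)` and `h_r(t)` in an integral representation, and the transfer of all
relations from characteristic zero to an arbitrary field.
-/
import Cfsg.Agent.Chev.RepComm

set_option autoImplicit false

namespace Cfsg.Agent.Chev
open Cfsg.Lie Matrix IsNilpotent

universe u

theorem exists_algClosed_embedding (R : Type u) [CommRing R] [IsDomain R] [CharZero R] :
    ∃ (K : Type u) (_ : Field K) (_ : CharZero K) (_ : IsAlgClosed K) (ι : R →+* K),
      Function.Injective ι := by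
  let K := AlgebraicClosure (FractionRing R)
  let ι : R →+* K := (algebraMap (FractionRing R) K).comp (algebraMap R (FractionRing R))
  have hι : Function.Injective ι :=
    (algebraMap (FractionRing R) K).injective.comp (IsFractionRing.injective R (FractionRing R))
  exact ⟨K, inferInstance, charZero_of_injective_ringHom hι, inferInstance, ι, hι⟩

/-- Every field is a residue field of a local subring of an algebraically closed field of
characteristic zero. -/
theorem exists_lift (F : Type u) [Field F] :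
    ∃ (R : Type u) (_ : CommRing R) (K : Type u) (_ : Field K) (_ : CharZero K) (_ : IsAlgClosed K)
      (ι : R →+* K) (φ : R →+* F), Function.Injective ι ∧ Function.Surjective φ ∧
        ∀ x, φ x ≠ 0 → IsUnit x := by
  let P := MvPolynomial F ℤ
  let ev : P →+* F := MvPolynomial.eval₂Hom (Int.castRingHom F) id
  have hp : (RingHom.ker ev).IsPrime := RingHom.ker_isPrime ev
  let R := Localization.AtPrime (RingHom.ker ev)
  have hu : ∀ y : (RingHom.ker ev).primeCompl, IsUnit (ev y) := fun y =>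
    isUnit_iff_ne_zero.2 fun h => y.2 h
  let φ : R →+* F := IsLocalization.lift hu
  have : IsDomain R :=
    IsLocalization.isDomain_localization (Ideal.primeCompl_le_nonZeroDivisors _)
  have hinj : Function.Injective (algebraMap P R) :=
    IsLocalization.injective R (Ideal.primeCompl_le_nonZeroDivisors (RingHom.ker ev))
  have : CharZero R := charZero_of_injective_ringHom hinj
  obtain ⟨K, i1, i2, i3, ι, hι⟩ := exists_algClosed_embedding R
  refine ⟨R, inferInstance, K, i1, i2, i3, ι, φ, hι, ?_, ?_⟩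
  · intro a
    exact ⟨algebraMap P R (MvPolynomial.X a), by
      rw [IsLocalization.lift_eq]; exact MvPolynomial.eval₂Hom_X' _ _ _⟩
  · intro x hx
    obtain ⟨⟨a, s⟩, rfl⟩ := IsLocalization.mk'_surjective (RingHom.ker ev).primeCompl x
    rw [IsLocalization.AtPrime.isUnit_mk'_iff R (RingHom.ker ev)]
    intro ha
    apply hx
    show IsLocalization.lift hu _ = 0
    rw [IsLocalization.lift_mk', (RingHom.mem_ker).1 ha, zero_mul]

theorem mat_transfer {I J R K F : Type*} [CommRing R] [CommRing K] [CommRing F] {ι : R →+* K}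
    (hι : Function.Injective ι) (φ : R →+* F) {A B : Matrix I J R} (h : A.map ι = B.map ι) :
    A.map φ = B.map φ := by
  rw [Matrix.map_injective hι h]

/-- the commutator word over a commutative ring -/
def cwR (D : ChevalleyDatum) (R : Type*) [CommRing R] (r s : ℕ) (t u : R) : List (ℕ × R) :=
  (D.commTerms r s).map fun c => (c.1, (c.2.1 : R) * (-t) ^ c.2.2.1 * u ^ c.2.2.2)

theorem cwR_map (D : ChevalleyDatum) {R S : Type*} [CommRing R] [CommRing S] (φ : R →+* S)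
    (r s : ℕ) (t u : R) :
    (cwR D R r s t u).map (fun p => (p.1, φ p.2)) = cwR D S r s (φ t) (φ u) := by
  simp [cwR]

theorem diag_zpow_map {J R S : Type*} [DecidableEq J] [CommRing R] [CommRing S] (φ : R →+* S)
    (t : Rˣ) (k : J → ℤ) : (Matrix.diagonal fun a => ((t ^ k a : Rˣ) : R)).map φ =
      Matrix.diagonal fun a => ((Units.map φ.toMonoidHom t ^ k a : Sˣ) : S) := by
  rw [Matrix.diagonal_map (map_zero φ)]
  congr 1
  funext a
  rw [← map_zpow]; rfl

namespace IntRep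
variable {D : ChevalleyDatum} {T : Tab D} {J : Type} [Fintype J] [DecidableEq J] (ρ : IntRep T J)

/-- `n_r(t)` -/
def n (R : Type*) [CommRing R] (r : ℕ) (t : Rˣ) : Matrix J J R :=
  ρ.X R r t * ρ.X R (D.neg r) (-(t⁻¹ : Rˣ)) * ρ.X R r t

/-- the diagonal matrix `t ^ ⟨μ, h_r⟩` -/
def hd (R : Type*) [CommRing R] (r : ℕ) (t : Rˣ) : Matrix J J R :=
  Matrix.diagonal fun a => ((t ^ ρ.m r a : Rˣ) : R)

theorem n_map {R S : Type*} [CommRing R] [CommRing S] (φ : R →+* S) (r : ℕ) (t : Rˣ) :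
    (ρ.n R r t).map φ = ρ.n S r (Units.map φ.toMonoidHom t) := by
  rw [n, Matrix.map_mul, Matrix.map_mul, X_map, X_map, n, map_neg]
  rfl

theorem hd_map {R S : Type*} [CommRing R] [CommRing S] (φ : R →+* S) (r : ℕ) (t : Rˣ) :
    (ρ.hd R r t).map φ = ρ.hd S r (Units.map φ.toMonoidHom t) := diag_zpow_map φ t _

theorem n_one_eq_cst (R : Type*) [CommRing R] (r : ℕ) : ρ.n R r 1 = cst R (ρ.n ℤ r 1) := by
  rw [cst, n_map, map_one]

theorem hd_mul {R : Type*} [CommRing R] (r : ℕ) (t u : Rˣ) :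
    ρ.hd R r t * ρ.hd R r u = ρ.hd R r (t * u) := by
  simp only [hd, diagonal_mul_diagonal, mul_zpow, Units.val_mul]

theorem hd_one {R : Type*} [CommRing R] (r : ℕ) : ρ.hd R r 1 = 1 := by
  simp [hd]

section Field
variable {F : Type u} [Field F]

theorem X_add (r : ℕ) (t u : F) : ρ.X F r t * ρ.X F r u = ρ.X F r (t + u) := by
  obtain ⟨R, _, K, _, _, _, ι, φ, hι, hφ, -⟩ := exists_lift F
  obtain ⟨t, rfl⟩ := hφ t
  obtain ⟨u, rfl⟩ := hφ u
  have := mat_transfer hι φ (A := ρ.X R r t * ρ.X R r u) (B := ρ.X R r (t + u))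
    (by simp only [Matrix.map_mul, X_map, map_add, X_add0])
  simpa only [Matrix.map_mul, X_map, map_add] using this

/-- Chevalley's commutator formula. -/
theorem comm_formula {r s : ℕ} (hr : r < D.nroots) (hs : s < D.nroots)
    (hneg : r + s + 1 ≠ D.nroots) (t u : F) :
    ρ.X F s u * ρ.X F r t = ρ.X F r t * ρ.X F s u * ρ.W F (D.commWord F r s t u) := by
  obtain ⟨R, _, K, _, _, _, ι, φ, hι, hφ, -⟩ := exists_lift F
  obtain ⟨t, rfl⟩ := hφ t
  obtain ⟨u, rfl⟩ := hφ u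
  have := mat_transfer hι φ (A := ρ.X R s u * ρ.X R r t)
    (B := ρ.X R r t * ρ.X R s u * ρ.W R (cwR D R r s t u))
    (by simp only [Matrix.map_mul, X_map, W_map, cwR_map]; exact ρ.comm_formula0 hr hs hneg _ _)
  simp only [Matrix.map_mul, X_map, W_map, cwR_map] at this
  exact this

theorem n_mul_neg (r : ℕ) (t : Fˣ) : ρ.n F r t * ρ.n F r (-t) = 1 := by
  simp only [n, mul_assoc, Units.val_neg, inv_neg, neg_neg]
  rw [← mul_assoc (ρ.X F r t) (ρ.X F r (-t)), X_add, add_neg_cancel, X_zero, one_mul,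
    ← mul_assoc (ρ.X F (D.neg r) _), X_add, neg_add_cancel, X_zero, one_mul, X_add,
    add_neg_cancel, X_zero]

theorem n_neg_mul (r : ℕ) (t : Fˣ) : ρ.n F r (-t) * ρ.n F r t = 1 := by
  have := ρ.n_mul_neg r (-t)
  rwa [neg_neg] at this

end Field

end IntRep

namespace Tab
variable {D : ChevalleyDatum} (T : Tab D) {R : Type*} [CommRing R]

theorem adn_bh {r : ℕ} (hr : r < D.nroots) (t : Rˣ) (i : Fin D.rank) :
    T.adRep.n R r t *ᵥ bh D R i = bh D R i - (D.cartan i r : R) • hv D R r := by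
  have h1 := T.adX_ev_neg (T.neg_lt hr) (-((t⁻¹ : Rˣ) : R))
  rw [T.neg_neg hr, T.hv_neg hr] at h1
  simp only [IntRep.n, ← mulVec_mulVec, T.adX_bh hr, T.adX_bh (T.neg_lt hr), mulVec_sub,
    mulVec_smul, h1, mulVec_add, T.adX_ev_self hr, T.adX_ev_neg hr, mulVec_neg, T.adX_hv hr,
    T.pair_self r hr, T.cartan_neg hr i.2]
  have e : (t : R) * ((t⁻¹ : Rˣ) : R) = 1 := by simp
  generalize ((t⁻¹ : Rˣ) : R) = s at e ⊢
  push_cast
  match_scalars
  · ring
  · linear_combination (2 * (D.cartan i r : R) * t - (D.cartan i r : R) * t ^ 2 * s) * e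
  · linear_combination ((D.cartan i r : R) * s) * e
  · linear_combination ((D.cartan i r : R) * t * s - (D.cartan i r : R)) * e

theorem adn_hv {r : ℕ} (hr : r < D.nroots) (t : Rˣ) (s : ℕ) :
    T.adRep.n R r t *ᵥ hv D R s = hv D R s - (D.pairing s r : R) • hv D R r := by
  conv_lhs => rw [hv_eq_sum]
  rw [mulVec_sum, pairing_eq_sum_fin]
  simp only [mulVec_smul, T.adn_bh hr, smul_sub, Finset.sum_sub_distrib, smul_smul]
  push_cast
  rw [Finset.sum_smul, ← hv_eq_sum]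

theorem adn_ev_self {r : ℕ} (hr : r < D.nroots) (t : Rˣ) :
    T.adRep.n R r t *ᵥ ev D R r = (-((t⁻¹ : Rˣ) : R) ^ 2) • ev D R (D.neg r) := by
  have h1 := T.adX_ev_neg (T.neg_lt hr) (-((t⁻¹ : Rˣ) : R))
  rw [T.neg_neg hr, T.hv_neg hr] at h1
  simp only [IntRep.n, ← mulVec_mulVec, mulVec_sub,
    mulVec_smul, h1, mulVec_add, T.adX_ev_self hr, T.adX_ev_neg hr, mulVec_neg, T.adX_hv hr,
    T.pair_self r hr]
  have e : (t : R) * ((t⁻¹ : Rˣ) : R) = 1 := by simp
  generalize ((t⁻¹ : Rˣ) : R) = s at e ⊢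
  push_cast
  match_scalars
  · linear_combination ((t : R) * s - 1) * e
  · linear_combination (-s) * e
  · ring

end Tab

namespace IntRep
variable {D : ChevalleyDatum} {T : Tab D} {J : Type} [Fintype J] [DecidableEq J] (ρ : IntRep T J)

theorem m_wt {s : ℕ} (hs : s < D.nroots) {a b : J} (h : ρ.e s a b ≠ 0) (r : ℕ) :
    ρ.m r a = ρ.m r b + D.pairing r s := by
  rw [m, m, pairing_eq_sum_fin, ← Finset.sum_add_distrib]
  exact Finset.sum_congr rfl fun i _ => by rw [ρ.wt s hs a b h i i.2]; ring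

section CharZero
variable {K : Type*} [Field K] [CharZero K]

theorem n_lin {r : ℕ} (hr : r < D.nroots) (t : Kˣ) (v : D.Idx → K) :
    ρ.n K r t * ρ.lin K v = ρ.lin K (T.adRep.n K r t *ᵥ v) * ρ.n K r t := by
  simp only [n, ← mulVec_mulVec, mul_assoc]
  rw [ρ.X_lin hr, ← mul_assoc (ρ.X K (D.neg r) _), ρ.X_lin (T.neg_lt hr), ← mul_assoc,
    ← mul_assoc, ρ.X_lin hr]
  simp only [mul_assoc]

theorem n_wt0 {r : ℕ} (hr : r < D.nroots) (t : Kˣ) {a b : J} (h : ρ.n K r t a b ≠ 0) {i : ℕ}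
    (hi : i < D.rank) : ρ.μ b i = ρ.μ a i - D.cartan i r * ρ.m r a := by
  have h1 := ρ.n_lin hr t (bh D K ⟨i, hi⟩)
  rw [T.adn_bh hr, map_sub, map_smul, lin_bh, lin_hv] at h1
  have h2 := congrFun (congrFun h1 a) b
  simp only [mul_diagonal, Matrix.sub_mul, Matrix.smul_mul, Matrix.sub_apply, diagonal_mul,
    Matrix.smul_apply, smul_eq_mul] at h2
  have h3 : ((ρ.μ b i : ℤ) : K) = ((ρ.μ a i - D.cartan i r * ρ.m r a : ℤ) : K) := by
    push_cast
    apply mul_left_cancel₀ h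
    linear_combination h2
  exact_mod_cast h3

theorem hd_X0 (r : ℕ) {s : ℕ} (hs : s < D.nroots) (c : Kˣ) (u : K) :
    ρ.hd K r c * ρ.X K s u = ρ.X K s (((c ^ D.pairing r s : Kˣ) : K) * u) * ρ.hd K r c := by
  rw [ρ.X_eq_exp hs, ρ.X_eq_exp hs]
  refine exp_semiconj (ρ.E_nil hs _) (ρ.E_nil hs _) ?_
  ext a b
  simp only [hd, mul_diagonal, diagonal_mul, Matrix.smul_apply, smul_eq_mul, E, cst,
    Matrix.map_apply, eq_intCast]
  by_cases h : ρ.e s a b = 0
  · simp [h]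
  · rw [ρ.m_wt hs h r, _root_.zpow_add, Units.val_mul]; ring

end CharZero

theorem n_wt {r : ℕ} (hr : r < D.nroots) {a b : J} (h : ρ.n ℤ r 1 a b ≠ 0) {i : ℕ}
    (hi : i < D.rank) : ρ.μ b i = ρ.μ a i - D.cartan i r * ρ.m r a := by
  refine ρ.n_wt0 (K := ℚ) hr 1 ?_ hi
  rw [n_one_eq_cst]
  simpa [cst] using h

theorem n_m {r : ℕ} (hr : r < D.nroots) {a b : J} (h : ρ.n ℤ r 1 a b ≠ 0) (s : ℕ) :
    ρ.m s b = ρ.m s a - D.pairing s r * ρ.m r a := by
  rw [pairing_eq_sum_fin, Finset.sum_mul]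
  conv_lhs => rw [m]
  conv_rhs => rw [m]
  rw [← Finset.sum_sub_distrib]
  exact Finset.sum_congr rfl fun i _ => by rw [ρ.n_wt hr h i.2]; ring

theorem n_m_self {r : ℕ} (hr : r < D.nroots) {a b : J} (h : ρ.n ℤ r 1 a b ≠ 0) :
    ρ.m r b = -ρ.m r a := by
  rw [ρ.n_m hr h, T.pair_self r hr]; ring

theorem n_eq0 {K : Type*} [Field K] [CharZero K] [IsAlgClosed K] {r : ℕ} (hr : r < D.nroots)
    (t : Kˣ) : ρ.n K r t = ρ.hd K r t * ρ.n K r 1 := by
  obtain ⟨l, hl⟩ := IsAlgClosed.exists_eq_mul_self (t : K)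
  have hl0 : l ≠ 0 := fun h => t.ne_zero (by rw [hl, h, mul_zero])
  set c : Kˣ := Units.mk0 l hl0 with hc
  have hct : c ^ (2 : ℤ) = t := by
    ext; rw [hl, zpow_two, Units.val_mul]; rfl
  have h1 : ρ.hd K r c * ρ.n K r 1 = ρ.n K r t * ρ.hd K r c := by
    simp only [n, ← mul_assoc]
    rw [ρ.hd_X0 r hr, mul_assoc _ (ρ.hd K r c), ρ.hd_X0 r (T.neg_lt hr), ← mul_assoc,
      mul_assoc _ (ρ.hd K r c), ρ.hd_X0 r hr, T.pairing_neg_right hr, T.pair_self r hr,
      _root_.zpow_neg, hct]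
    simp only [Units.val_one, mul_one, inv_one, mul_neg, mul_assoc]
  have h2 : ρ.n K r 1 = ρ.hd K r c * ρ.n K r 1 * ρ.hd K r c := by
    rw [n_one_eq_cst]
    ext a b
    simp only [hd, mul_diagonal, diagonal_mul, cst, Matrix.map_apply, eq_intCast]
    by_cases h : ρ.n ℤ r 1 a b = 0
    · simp [h]
    · rw [ρ.n_m_self hr h, _root_.zpow_neg, mul_comm, ← mul_assoc, ← Units.val_mul, inv_mul_cancel,
        Units.val_one, one_mul]
  have h3 : ρ.hd K r t = ρ.hd K r c * ρ.hd K r c := by rw [hd_mul, ← hct, zpow_two]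
  calc ρ.n K r t = ρ.n K r t * ρ.hd K r c * ρ.hd K r c⁻¹ := by
        rw [mul_assoc, hd_mul, mul_inv_cancel, hd_one, mul_one]
    _ = ρ.hd K r c * (ρ.hd K r c * ρ.n K r 1 * ρ.hd K r c) * ρ.hd K r c⁻¹ := by rw [← h1, ← h2]
    _ = ρ.hd K r c * ρ.hd K r c * ρ.n K r 1 * (ρ.hd K r c * ρ.hd K r c⁻¹) := by
        simp only [mul_assoc]
    _ = _ := by rw [hd_mul _ _ c c⁻¹, mul_inv_cancel, hd_one, mul_one, h3]

section Field
variable {F : Type u} [Field F]

theorem exists_unit_lift {R : Type*} [CommRing R] {φ : R →+* F} (hφ : Function.Surjective φ)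
    (hu : ∀ x, φ x ≠ 0 → IsUnit x) (t : Fˣ) : ∃ s : Rˣ, Units.map φ.toMonoidHom s = t := by
  obtain ⟨x, hx⟩ := hφ t
  obtain ⟨s, rfl⟩ := hu x (by rw [hx]; exact t.ne_zero)
  exact ⟨s, Units.ext hx⟩

/-- `n_r(t) = h_r(t) n_r(1)` with `h_r(t)` diagonal. -/
theorem n_eq {r : ℕ} (hr : r < D.nroots) (t : Fˣ) : ρ.n F r t = ρ.hd F r t * ρ.n F r 1 := by
  obtain ⟨R, _, K, _, _, _, ι, φ, hι, hφ, hu⟩ := exists_lift F
  obtain ⟨t, rfl⟩ := exists_unit_lift hφ hu t
  have := mat_transfer hι φ (A := ρ.n R r t) (B := ρ.hd R r t * ρ.n R r 1)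
    (by simp only [Matrix.map_mul, n_map, hd_map, map_one]; exact ρ.n_eq0 hr _)
  simpa only [Matrix.map_mul, n_map, hd_map, map_one] using this

theorem n_mul_n_neg_one {r : ℕ} (hr : r < D.nroots) (t : Fˣ) :
    ρ.n F r t * ρ.n F r (-1) = ρ.hd F r t := by
  rw [ρ.n_eq hr t, mul_assoc, n_mul_neg, mul_one]

theorem hd_X (r : ℕ) {s : ℕ} (hs : s < D.nroots) (c : Fˣ) (u : F) :
    ρ.hd F r c * ρ.X F s u = ρ.X F s (((c ^ D.pairing r s : Fˣ) : F) * u) * ρ.hd F r c := by
  obtain ⟨R, _, K, _, _, _, ι, φ, hι, hφ, hu⟩ := exists_lift F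
  obtain ⟨c, rfl⟩ := exists_unit_lift hφ hu c
  obtain ⟨u, rfl⟩ := hφ u
  have e : ∀ {S : Type u} [CommRing S] (ψ : R →+* S), ψ ((c ^ D.pairing r s : Rˣ) : R) =
      ((Units.map ψ.toMonoidHom c ^ D.pairing r s : Sˣ) : S) := by
    intro S _ ψ; rw [← map_zpow]; rfl
  have := mat_transfer hι φ (A := ρ.hd R r c * ρ.X R s u)
    (B := ρ.X R s (((c ^ D.pairing r s : Rˣ) : R) * u) * ρ.hd R r c)
    (by simp only [Matrix.map_mul, X_map, hd_map, map_mul, e]; exact ρ.hd_X0 r hs _ _)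
  simpa only [Matrix.map_mul, X_map, hd_map, map_mul, e] using this

end Field

end IntRep

end Cfsg.Agent.Chev
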