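/-
The universal groups of types E6 and E7 embed their tori into the adjoint group of type E8.
-/
import Cfsg.Agent.Chev.StUniv

set_option autoImplicit false
set_option maxRecDepth 100000

namespace Cfsg.Agent.Chev

open Cfsg.Lie St0 St

/-- An embedding of root indices compatible with the commutator formula. -/
structure EmbOK (D D' : ChevalleyDatum) (e : ℕ → ℕ) : Prop where
  lt : ∀ r < D.nroots, e r < D'.nroots
  neg : ∀ r < D.nroots, e (D.neg r) = D'.neg (e r)
  inj : ∀ r < D.nroots, ∀ s < D.nroots, e r = e s → r = s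
  comm : ∀ r < D.nroots, ∀ s < D.nroots, D'.commTerms (e r) (e s) = (D.commTerms r s).map fun c => (e c.1, c.2)
  rank : D.rank ≤ D'.rank
  simple : ∀ i < D.rank, e (D.simple i) = D'.simple i

theorem embOK_of {D D' : ChevalleyDatum} (T : Tab D) (T' : Tab D') {n n' : ℕ} {e e' : ℕ → ℕ}
    {N N' : ℕ → ℕ → ℤ} {P P' : ℕ → ℕ → ℕ} (hn : D.nroots = n) (hn' : D'.nroots = n') (hN : T.N = N) (hP : T.P = P)
    (hN' : T'.N = N') (hP' : T'.P = P')
    (h1 : allLt n (fun r => Nat.blt (e r) n' && Nat.beq (e (n - 1 - r)) (n' - 1 - e r) && Nat.beq (e' (e r)) r) = true)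
    (h2 : allLt n (fun r => allLt n fun s =>
      decide (cT N' P' (e r) (e s) = (cT N P r s).map fun c => (e c.1, c.2))) = true)
    (h3 : D.rank ≤ D'.rank) (h4 : allLt D.rank (fun i => Nat.beq (e (D.simple i)) (D'.simple i)) = true) :
    EmbOK D D' e := by
  subst hn hn' hN hP hN' hP'
  have h5 : ∀ r < D.nroots, e r < D'.nroots ∧ e (D.nroots - 1 - r) = D'.nroots - 1 - e r ∧ e' (e r) = r :=
    fun r hr => by simpa [and_assoc] using allLt_spec h1 r hr
  refine ⟨fun r hr => (h5 r hr).1, fun r hr => by rw [T.neg_eq' hr, T'.neg_eq' (h5 r hr).1, (h5 r hr).2.1],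
    fun r hr s hs h => by rw [← (h5 r hr).2.2, h, (h5 s hs).2.2], fun r hr s hs => ?_, h3,
    fun i hi => by simpa using allLt_spec h4 i hi⟩
  rw [T.commTerms_eq hr hs, T'.commTerms_eq (h5 r hr).1 (h5 s hs).1]
  simpa using allLt_spec (allLt_spec h2 r hr) s hs

/-- pull back of the relations along an embedding -/
def EmbOK.pull {D D' : ChevalleyDatum} {e : ℕ → ℕ} (h : EmbOK D D' e) {Φ : RootSys (Fin D.rank) (Fin D.nroots)}
    (L : Link D Φ) {F G : Type*} [Field F] [Group G] (Y : DRel D' F G) : DRel D F G where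
  y r := Y.y (e r)
  y_add r hr := Y.y_add _ (h.lt r hr)
  comm r hr s hs h1 h2 t u := by
    rw [Y.comm _ (h.lt r hr) _ (h.lt s hs) (fun e => h1 (h.inj s hs r hr e))
      (fun e => h2 (h.inj s hs _ (L.neg_lt hr) (e.trans (h.neg r hr).symm)))]
    simp [ChevalleyDatum.commWord, h.comm r hr s hs, List.map_map, Function.comp_def]

theorem EmbOK.pull_word_hWord {D D' : ChevalleyDatum} {e : ℕ → ℕ} (h : EmbOK D D' e)
    {Φ : RootSys (Fin D.rank) (Fin D.nroots)} (L : Link D Φ) {F G : Type*} [Field F] [Group G] (Y : DRel D' F G)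
    {r : ℕ} (hr : r < D.nroots) (t : F) : (h.pull L Y).word (D.hWord r t) = Y.word (D'.hWord (e r) t) := by
  simp [ChevalleyDatum.hWord, ChevalleyDatum.nWord, EmbOK.pull, h.neg r hr]

theorem EmbOK.hT_injective {D D' : ChevalleyDatum} {e : ℕ → ℕ} (h : EmbOK D D' e)
    {Φ : RootSys (Fin D.rank) (Fin D.nroots)} (L : Link D Φ) {Φ' : RootSys (Fin D'.rank) (Fin D'.nroots)}
    (L' : Link D' Φ') {K : Type*} [Field K] (hM : MatRel D K) (hM' : MatRel D' K)
    (hinj : Function.Injective (hM'.adj L').hT) {nb : List (ℕ × ℕ × ℕ × ℕ × ℕ × ℕ × ℕ)}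
    (hu : univChk D nb = true) : Function.Injective (hM.univ L hu).hT := by
  obtain ⟨θ, hθ⟩ := (h.pull L hM'.drel).exists_lift L fun r hr t u ht hu => by
    simp only [h.pull_word_hWord L _ hr]
    exact Units.ext (by simp only [Units.val_mul, MatRel.coe_drel_word]; exact hM'.hmul _ (h.lt r hr) t u ht hu)
  have key : ∀ c, θ ((hM.univ L hu).hT c) =
      (hM'.adj L').hT (Function.ExtendByOne.hom Kˣ (Fin.castLE h.rank) c) := fun c => by
    induction c using St.hT_induction with
    | one => simp
    | mul a b ha hb => simp only [map_mul, ha, hb]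
    | single i c =>
      have h1 : Function.ExtendByOne.hom Kˣ (Fin.castLE h.rank) (Pi.mulSingle i c) =
          Pi.mulSingle (Fin.castLE h.rank i) c := by
        ext1 j
        by_cases hj : ∃ k, Fin.castLE h.rank k = j
        · obtain ⟨k, rfl⟩ := hj
          simp [(Fin.castLE_injective h.rank).extend_apply, Pi.mulSingle_apply]
        · have : j ≠ Fin.castLE h.rank i := fun e => hj ⟨i, e.symm⟩
          simp [Function.extend_apply' _ _ _ hj, this]
      rw [h1, hT_mulSingle, hT_mulSingle, MatRel.univ_h, ChevalleyDatum.stH, ← MonoidHom.comp_apply,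
        (h.pull L hM'.drel).lift_stWord _ hθ (by
          simp [ChevalleyDatum.hWord, ChevalleyDatum.nWord, L.neg_lt]), h.pull_word_hWord L _ (Fin.is_lt _),
        ← L.simple, h.simple i i.2]
      exact Units.ext (by rw [MatRel.coe_drel_word, MatRel.coe_h, ← L'.simple]; rfl)
  intro a b e
  have := hinj ((key a).symm.trans ((congrArg θ e).trans (key b)))
  ext1 i
  simpa [(Fin.castLE_injective h.rank).extend_apply] using congrFun this (Fin.castLE h.rank i)

theorem MatRel.hT_injective {D : ChevalleyDatum} {K : Type*} [Field K] (hM : MatRel D K)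
    {Φ : RootSys (Fin D.rank) (Fin D.nroots)} (L : Link D Φ) {d : List ℕ} (h : Smith Φ.A d) (hd : ∀ k ∈ d, k = 1) :
    Function.Injective (hM.adj L).hT := by
  rw [← MonoidHom.ker_eq_bot_iff, hM.ker_hT L, MonoidHom.ker_eq_bot_iff]
  exact h.injective hd _

/-- the embedding of the roots of E6 into those of E8 -/
def embE6 : ℕ → ℕ := dec8 0xccc2bcb9b8b2afaeabaaa9a6a5a4a3a29c9998959493908f8e8d8a8988878483827f7e7b7471706d6c6b686766656261605f5c5b5a5756534d4c4b4a4946454441403d3736332d23

theorem embOKE6 : EmbOK chevE6 chevE8 embE6 :=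
  embOK_of (n := 72) (n' := 240) (N := fN rowsE6) (P := fP rowsE6) (N' := fN rowsE8) (P' := fP rowsE8)
    (e' := dec8 0x4700000000000000000046000000000045000044430000000000420000414000003f3e3d00003c3b3a3938000000000037000036350000343332000031302f2e00002d2c2b2a00002928270000262500002400000000000023000022210000201f1e00001d1c1b1a00001918171600001514130000121100001000000000000f0e0d0c0b00000a09080000070600000500000000000403000002000000000001000000000000000000000000000000000000000000000000000000000000000000000000000000000000000000)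
    tabE6 tabE8 rfl rfl rfl rfl rfl rfl (by decide +kernel) (by decide +kernel) (by decide) (by decide +kernel)

theorem univ_hT_injectiveE6 (K : Type*) [Field K] :
    Function.Injective ((matRel_of_mem K memE6).univ linkE6 univE6).hT :=
  embOKE6.hT_injective linkE6 linkE8 _ (matRel_of_mem K memE8)
    (MatRel.hT_injective _ _ smithE8 (by simp)) _

/-- the embedding of the roots of E7 into those of E8 -/
def embE7 : ℕ → ℕ := dec8 0xe2dbd6d2cfcdccc8c5c3c2bfbdbcbab9b8b5b3b2b0afaeacabaaa9a7a6a5a4a3a29f9d9c9a99989695949391908f8e8d8b8a89888785848382807f7e7c7b7976747371706f6d6c6b6a68676665646261605f5e5c5b5a595756555352504d4c4b4a49484645444341403f3d3c3a3736353332302d2c2a272322201d19140d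

theorem embOKE7 : EmbOK chevE7 chevE8 embE7 :=
  embOK_of (n := 126) (n' := 240) (N := fN rowsE7) (P := fP rowsE7) (N' := fN rowsE8) (P' := fP rowsE8)
    (e' := dec8 0x7d0000000000007c000000007b0000007a00007900787700000076000075007473000072007170006f6e6d00006c006b6a006968670066656463006261605f5e5d00005c005b5a005958570056555453005251504f4e004d4c4b4a49004847464500444342004140003f00003e003d3c003b3a390038373635003433323130002f2e2d2c2b002a2928270026252400232200210000201f1e1d1c1b001a1918170016151400131200110000100f0e000d0c000b00000a090008000007000000060500040000030000000200000000010000000000000000000000000000000000000000)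
    tabE7 tabE8 rfl rfl rfl rfl rfl rfl (by decide +kernel) (by decide +kernel) (by decide) (by decide +kernel)

theorem univ_hT_injectiveE7 (K : Type*) [Field K] :
    Function.Injective ((matRel_of_mem K memE7).univ linkE7 univE7).hT :=
  embOKE7.hT_injective linkE7 linkE8 _ (matRel_of_mem K memE8)
    (MatRel.hT_injective _ _ smithE8 (by simp)) _

end Cfsg.Agent.Chev
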