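/-
A kernel-friendly evaluation of words in root elements with integer parameters, modulo a prime.
-/
import Cfsg.Agent.Chev.TwGlue

set_option autoImplicit false

namespace Cfsg.Agent.Chev

open Cfsg.Lie Matrix

/-- digit number `b` of width `W` -/
def dgt (W M b : ℕ) : ℕ := Nat.mod (Nat.shiftRight M (Nat.mul W b)) (Nat.pow 2 W)

/-- the number with given digits -/
noncomputable def pck (W d : ℕ) (f : ℕ → ℕ) : ℕ :=
  Nat.rec 0 (fun b acc => Nat.add acc (Nat.shiftLeft (Nat.mod (f b) (Nat.pow 2 W)) (Nat.mul W b))) d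

theorem dgt_eq (W M b : ℕ) : dgt W M b = M / (2 ^ W) ^ b % 2 ^ W := by
  rw [← pow_mul, ← Nat.shiftRight_eq_div_pow]; rfl

theorem pck_succ (W d : ℕ) (f : ℕ → ℕ) : pck W (d + 1) f = pck W d f + f d % 2 ^ W * (2 ^ W) ^ d := by
  rw [← pow_mul, ← Nat.shiftLeft_eq]; rfl

theorem pck_lt (W d : ℕ) (f : ℕ → ℕ) : pck W d f < (2 ^ W) ^ d := by
  induction d with
  | zero => exact Nat.one_pos
  | succ d ih =>
    have := Nat.mod_lt (f d) (Nat.two_pow_pos W)
    rw [pck_succ, pow_succ]; nlinarith

theorem dgt_mod (W M : ℕ) {b d : ℕ} (h : b < d) : dgt W (M % 2 ^ (W * d)) b = dgt W M b := by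
  obtain ⟨k, rfl⟩ := Nat.exists_eq_add_of_lt h
  rw [dgt_eq, dgt_eq, pow_mul, add_assoc, pow_add, Nat.mod_mul_right_div_self,
    Nat.mod_mod_of_dvd _ (dvd_pow_self _ (Nat.succ_ne_zero k))]

theorem dgt_pck (W : ℕ) (f : ℕ → ℕ) {b d : ℕ} (h : b < d) : dgt W (pck W d f) b = f b % 2 ^ W := by
  induction d with
  | zero => omega
  | succ d ih =>
    rcases Nat.lt_succ_iff_lt_or_eq.1 h with h | rfl
    · rw [← dgt_mod _ _ h, pck_succ, pow_mul, Nat.add_mul_mod_self_right, ← pow_mul, dgt_mod _ _ h, ih h]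
    · rw [dgt_eq, pck_succ, Nat.add_mul_div_right _ _ (by positivity), Nat.div_eq_of_lt (pck_lt _ _ _), zero_add,
        Nat.mod_mod]

/-- a coding of vectors of length `d` by natural numbers with `W` bits -/
structure Dig (K : Type*) [CommRing K] (d W : ℕ) (lin : ℕ → ℤ → ℕ → ℕ) (one : ℕ) where
  /-- the coordinates of a coded vector -/
  ev : ℕ → ℕ → K
  ev_lin : ∀ v c w, ∀ a < d, ev (lin v c w) a = ev v a + c * ev w a
  ev_mod : ∀ v, ∀ a < d, ev (v % 2 ^ W) a = ev v a
  ev_one : ∀ a < d, ∀ b < d, ev (dgt W one b) a = if a = b then 1 else 0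

/-- the data of the engine -/
structure Eng where
  l : ℕ
  n : ℕ
  W : ℕ
  N : ℕ → ℕ → ℤ
  P : ℕ → ℕ → ℕ
  car : ℕ → ℕ → ℤ
  cor : ℕ → ℕ → ℤ
  lin : ℕ → ℤ → ℕ → ℕ
  one : ℕ

namespace Eng

variable (E : Eng)

/-- new column of a root vector -/
noncomputable def colE (r : ℕ) (t : ℤ) (M s : ℕ) : ℕ :=
  Bool.rec
    (Bool.rec (E.lin (E.lin (E.lin (dgt E.W M (Nat.add E.l s)) (Int.mul (E.N r s) t)
          (dgt E.W M (Nat.add E.l (E.P r s))))
        (Int.mul (M2 E.N E.P r s) (Int.mul t t)) (dgt E.W M (Nat.add E.l (E.P r (E.P r s)))))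
        (Int.mul (M3 E.N E.P r s) (Int.mul t (Int.mul t t))) (dgt E.W M (Nat.add E.l (E.P r (E.P r (E.P r s))))))
      (dgt E.W M (Nat.add E.l s)) (Nat.beq (Int.natAbs (E.N r s)) 0))
    (E.lin (Nat.rec (dgt E.W M (Nat.add E.l s)) (fun i acc => E.lin acc (Int.mul (E.cor i r) t) (dgt E.W M i)) E.l)
      (Int.neg (Int.mul t t)) (dgt E.W M (Nat.add E.l r)))
    (Nat.beq (Nat.succ (Nat.add r s)) E.n)

/-- new column -/
noncomputable def col (r : ℕ) (t : ℤ) (M b : ℕ) : ℕ :=
  Bool.rec (E.colE r t M (Nat.sub b E.l))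
    (E.lin (dgt E.W M b) (Int.neg (Int.mul (E.car b r) t)) (dgt E.W M (Nat.add E.l r))) (Nat.blt b E.l)

/-- right multiplication by a root element -/
noncomputable def step (r : ℕ) (t : ℤ) (M : ℕ) : ℕ :=
  Bool.rec M (Bool.rec (pck E.W (Nat.add E.l E.n) (E.col r t M)) M (Nat.beq (Int.natAbs t) 0)) (Nat.blt r E.n)

/-- right multiplication by a word -/
noncomputable def run (w : List (ℕ × ℤ)) : ℕ → ℕ :=
  List.rec (fun M => M) (fun p _ ih M => frc (E.step p.1 p.2 M) ih) w

/-- the coded matrix of a word -/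
noncomputable def mat (w : List (ℕ × ℤ)) : ℕ := E.run w E.one

/-- correctness of the tables -/
structure OK {D : ChevalleyDatum} (T : Tab D) : Prop where
  l : E.l = D.rank
  n : E.n = D.nroots
  N : E.N = T.N
  P : E.P = T.P
  car : ∀ i < D.rank, ∀ r < D.nroots, E.car i r = D.cartan i r
  cor : ∀ r < D.nroots, ∀ i < D.rank, E.cor i r = Chev.cor D r i

end Eng

/-- position of a basis vector -/
def ixOf {D : ChevalleyDatum} : D.Idx → ℕ := Sum.elim (fun i => i) fun s => D.rank + s

theorem ixOf_lt {D : ChevalleyDatum} (a : D.Idx) : ixOf a < D.rank + D.nroots := by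
  rcases a with i | s
  · have := i.2; simp only [ixOf, Sum.elim_inl]; omega
  · have := s.2; simp only [ixOf, Sum.elim_inr]; omega

theorem ixOf_injective {D : ChevalleyDatum} : Function.Injective (ixOf (D := D)) := by
  rintro (i | s) (j | u) h <;> simp only [ixOf, Sum.elim_inl, Sum.elim_inr] at h
  · rw [Fin.ext h]
  · have := i.2; omega
  · have := j.2; omega
  · rw [Fin.ext (Nat.add_left_cancel h)]

/-- a word with integer parameters as a word over a ring -/
def castW (K : Type*) [IntCast K] (w : List (ℕ × ℤ)) : List (ℕ × K) := w.map fun p => (p.1, (p.2 : K))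

namespace Eng.OK

variable {E : Eng} {D : ChevalleyDatum} {T : Tab D} (h : E.OK T) {K : Type*} [Field K]
  (C : Dig K (D.rank + D.nroots) E.W E.lin E.one)

/-- the decoded matrix -/
def dec (_ : E.OK T) (C : Dig K (D.rank + D.nroots) E.W E.lin E.one) (M : ℕ) : Matrix D.Idx D.Idx K :=
  Matrix.of fun a b => C.ev (dgt E.W M (ixOf b)) (ixOf a)

theorem dec_one : h.dec C E.one = 1 := by
  ext a b
  rw [dec, of_apply, C.ev_one _ (ixOf_lt a) _ (ixOf_lt b), one_apply]
  simp [ixOf_injective.eq_iff]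

theorem dec_ev (M : ℕ) {k : ℕ} (hk : k < D.nroots) (a : D.Idx) :
    (h.dec C M *ᵥ ev D K k) a = C.ev (dgt E.W M (D.rank + k)) (ixOf a) := by
  rw [mulVec_ev _ hk]; rfl

theorem dec_bh (M : ℕ) (i : Fin D.rank) (a : D.Idx) :
    (h.dec C M *ᵥ bh D K i) a = C.ev (dgt E.W M i) (ixOf a) := by
  rw [mulVec_bh]; rfl

theorem dec_step (r : ℕ) (t : ℤ) (M : ℕ) : h.dec C (E.step r t M) = h.dec C M * D.x K r t := by
  have hl := h.l
  have hn := h.n
  unfold Eng.step
  cases h1 : Nat.blt r E.n
  · have : ¬ r < D.nroots := by rw [← hn, ← Nat.blt_eq, h1]; simp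
    simp [ChevalleyDatum.x, this]
  have hr : r < D.nroots := by rwa [← hn, ← Nat.blt_eq]
  rw [T.x_eq_adX]
  cases h2 : Nat.beq (Int.natAbs t) 0
  swap
  · have : t = 0 := by simpa using h2
    simp [this, IntRep.X_zero]
  have key : ∀ b < D.rank + D.nroots, ∀ a : D.Idx,
      C.ev (dgt E.W (pck E.W (Nat.add E.l E.n) (E.col r t M)) b) (ixOf a) = C.ev (E.col r t M b) (ixOf a) :=
    fun b hb a => by rw [dgt_pck _ _ (by rw [hl, hn]; exact hb), C.ev_mod _ _ (ixOf_lt a)]
  refine mat_ext (fun i => ?_) fun s hs => ?_ <;> funext a <;> have ha := ixOf_lt a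
  · rw [dec_bh, key _ (by have := i.2; omega), ← mulVec_mulVec, T.adX_bh hr, mulVec_sub, mulVec_smul, Pi.sub_apply,
      Pi.smul_apply, dec_bh, dec_ev _ _ _ hr, Eng.col, show Nat.blt i E.l = true by rw [Nat.blt_eq, hl]; exact i.2]
    simp only [C.ev_lin _ _ _ _ ha, hl, h.car i i.2 r hr, Nat.add_eq, Int.mul_def, show ∀ x : ℤ, x.neg = -x from fun _ => rfl]
    push_cast; simp only [smul_eq_mul]; ring
  · have h3 : Nat.blt (D.rank + s) E.l = false := by
      rw [← Bool.not_eq_true, Nat.blt_eq, hl]; omega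
    rw [dec_ev _ _ _ hs, key _ (by omega), ← mulVec_mulVec, Eng.col, h3]
    simp only [hl, Nat.sub_eq, Nat.add_sub_cancel_left, Eng.colE, Nat.add_eq, Int.mul_def, show ∀ x : ℤ, x.neg = -x from fun _ => rfl, h.N, h.P]
    cases h4 : Nat.beq (r + s).succ E.n
    · have h5 : r + s + 1 ≠ D.nroots := by rw [← hn]; exact Nat.ne_of_beq_eq_false h4
      rw [T.adX_ev hr hs h5]
      simp only [mulVec_add, mulVec_smul, Pi.add_apply, Pi.smul_apply, dec_ev _ _ _ hs, smul_eq_mul]
      cases h6 : Nat.beq (T.N r s).natAbs 0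
      swap
      · have : T.N r s = 0 := by simpa using h6
        simp [this, M2, M3]
      have h7 : T.N r s ≠ 0 := fun e => by simp [e] at h6
      have h8 := T.P_lt hr hs h7
      simp only [C.ev_lin _ _ _ _ ha, dec_ev _ _ _ h8]
      push_cast
      by_cases h9 : T.N r (T.P r s) = 0
      · simp [M2, M3, h9]
      have h10 := T.P_lt hr h8 h9
      rw [dec_ev _ _ _ h10]
      by_cases h11 : T.N r (T.P r (T.P r s)) = 0
      · simp [M3, h11, sq]
      rw [dec_ev _ _ _ (T.P_lt hr h10 h11)]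
      ring
    · have h5 : s = D.neg r := (T.eq_neg_iff hr).2 (hn ▸ Nat.eq_of_beq_eq_true h4)
      have h6 : ∀ k ≤ D.rank, ∀ v, C.ev (Nat.rec v (fun i acc => E.lin acc (E.cor i r * t) (dgt E.W M i)) k)
          (ixOf a) = C.ev v (ixOf a) + ∑ i ∈ Finset.range k, (Chev.cor D r i : K) * t * C.ev (dgt E.W M i) (ixOf a) := by
        intro k hk v
        induction k with
        | zero => simp
        | succ k ih =>
          simp only [C.ev_lin _ _ _ _ ha, ih (by omega), Finset.sum_range_succ, h.cor r hr k hk]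
          push_cast; ring
      rw [h5, T.adX_ev_neg hr, hv_eq_sum]
      simp only [mulVec_add, mulVec_sub, mulVec_smul, mulVec_sum, Pi.add_apply, Pi.sub_apply, Pi.smul_apply,
        Finset.sum_apply, dec_ev _ _ _ hr, dec_ev _ _ _ (T.neg_lt hr), dec_bh, smul_eq_mul, C.ev_lin _ _ _ _ ha,
        h6 _ le_rfl, Finset.sum_range, Finset.mul_sum]
      push_cast
      simp only [mul_left_comm (t : K), mul_assoc]
      ring

theorem dec_run (w : List (ℕ × ℤ)) (M : ℕ) : h.dec C (E.run w M) = h.dec C M * D.wordMat K (castW K w) := by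
  induction w generalizing M with
  | nil => simp [Eng.run, castW, ChevalleyDatum.wordMat]
  | cons p w ih =>
    have : E.run (p :: w) M = E.run w (E.step p.1 p.2 M) := frc_eq _ _
    rw [this, ih, dec_step, Matrix.mul_assoc]
    simp [castW, ChevalleyDatum.wordMat]

theorem dec_mat (w : List (ℕ × ℤ)) : h.dec C (E.mat w) = D.wordMat K (castW K w) := by
  rw [Eng.mat, dec_run, dec_one, Matrix.one_mul]

include h C in
theorem word_eq {hM : MatRel D K} {Φ : RootSys (Fin D.rank) (Fin D.nroots)} (L : Link D Φ) {w w' : List (ℕ × ℤ)}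
    (e : Nat.beq (E.mat w) (E.mat w') = true) : (hM.gr L).word (castW K w) = (hM.gr L).word (castW K w') :=
  hM.inc_injective L (Units.ext (by
    rw [hM.coe_inc_word, hM.coe_inc_word, ← h.dec_mat C, ← h.dec_mat C, Nat.eq_of_beq_eq_true e]))

end Eng.OK

/-- linear combination modulo two -/
noncomputable def lin2 (v : ℕ) (c : ℤ) (w : ℕ) : ℕ :=
  Bool.rec (Nat.xor v w) v (Nat.beq (Nat.mod (Int.natAbs c) 2) 0)

/-- coding of vectors in characteristic two -/
def dig2 (K : Type*) [CommRing K] (h2 : (2 : K) = 0) (d one : ℕ)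
    (h1 : ∀ b < d, dgt d one b = 2 ^ b) : Dig K d d lin2 one where
  ev v a := if v.testBit a then 1 else 0
  ev_lin v c w a _ := by
    unfold lin2
    have hc : (c : K) = ((c.natAbs % 2 : ℕ) : K) := by
      have h3 : ∀ n : ℕ, (n : K) = (n % 2 : ℕ) := fun n => by
        conv_lhs => rw [← Nat.mod_add_div n 2]
        push_cast; rw [h2]; ring
      rw [← h3]
      rcases Int.natAbs_eq c with e | e <;> conv_lhs => rw [e]
      · simp
      · rw [Int.cast_neg, Int.cast_natCast]; linear_combination (-(c.natAbs : K)) * h2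
    cases h : Nat.beq (Nat.mod (Int.natAbs c) 2) 0
    · have : c.natAbs % 2 = 1 := by have : c.natAbs % 2 ≠ 0 := Nat.ne_of_beq_eq_false h; omega
      rw [hc, this]
      simp only [Nat.xor_eq, Nat.testBit_xor]
      cases v.testBit a <;> cases w.testBit a <;> simp
      linear_combination -h2
    · rw [hc, show c.natAbs % 2 = 0 from Nat.eq_of_beq_eq_true h]; simp
  ev_mod v a ha := by simp [Nat.testBit_mod_two_pow, ha]
  ev_one a _ b hb := by simp [h1 b hb, Nat.testBit_two_pow, eq_comm]

/-- linear combination modulo `p`, with digits of `k` bits -/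
noncomputable def linP (p k d v : ℕ) (c : ℤ) (w : ℕ) : ℕ :=
  frc (Int.natAbs (Int.emod c p)) fun c' => Bool.rec (frc v fun v' => frc w fun w' =>
    pck k d fun a => Nat.mod (Nat.add (dgt k v' a) (Nat.mul c' (dgt k w' a))) p) v (Nat.beq c' 0)

/-- coding of vectors in characteristic `p` -/
def digP (K : Type*) [CommRing K] (p k d one : ℕ) (hp : (p : K) = 0) (h0 : 0 < p) (hk : p ≤ 2 ^ k)
    (h1 : ∀ a < d, ∀ b < d, dgt k (dgt (k * d) one b) a = if a = b then 1 else 0) :
    Dig K d (k * d) (linP p k d) one where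
  ev v a := (dgt k v a : K)
  ev_lin v c w a ha := by
    have hc : (c : K) = ((Int.emod c p).natAbs : K) := by
      show _ = (((c % p : ℤ).natAbs : ℕ) : K)
      rw [← Int.cast_natCast, Int.natAbs_of_nonneg (Int.emod_nonneg _ (by omega)), Int.emod_def]
      push_cast; rw [hp]; ring
    simp only [linP, frc_eq]
    cases h : Nat.beq (Int.emod c p).natAbs 0
    · simp only [dgt_pck _ _ ha, show ∀ a b : ℕ, a.mod b = a % b from fun _ _ => rfl, Nat.add_eq, Nat.mul_eq]
      rw [Nat.mod_eq_of_lt ((Nat.mod_lt _ h0).trans_le hk), hc]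
      conv_rhs => rw [← Nat.cast_mul, ← Nat.cast_add, ← Nat.mod_add_div (_ + _) p]
      push_cast; rw [hp]; ring
    · rw [hc, Nat.eq_of_beq_eq_true h]; simp
  ev_mod v a ha := by rw [dgt_mod _ _ ha]
  ev_one a ha b hb := by rw [h1 a ha b hb]; simp

theorem Eng.ok_of_chk {D : ChevalleyDatum} (T : Tab D) {A C : ℕ} (h : chk1 D A C D.nroots D.rank = true) (W : ℕ)
    (lin : ℕ → ℤ → ℕ → ℕ) (one : ℕ) :
    Eng.OK ⟨D.rank, D.nroots, W, T.N, T.P, fA A D.nroots, fA C D.nroots, lin, one⟩ T :=
  ⟨rfl, rfl, rfl, rfl, (chk1_spec h).2.2, fun r hr => ((chk1_spec h).2.1 r hr).2⟩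

/-- the engine for type G2 in characteristic three -/
noncomputable def engG2 : Eng := ⟨2, 12, 28, fN rowsG2, fP rowsG2, fA wtsG2 12, fA corsG2 12, linP 3 2 14,
  0x40000001000000040000001000000040000001000000040000001000000040000001000000040000001000000040000001⟩

theorem engG2_ok : engG2.OK tabG2 := Eng.ok_of_chk tabG2 chk1G2 _ _ _

/-- the coding for type G2 -/
noncomputable def digG2 (K : Type*) [CommRing K] (h : ((3 : ℕ) : K) = 0) :
    Dig K (chevG2.rank + chevG2.nroots) engG2.W engG2.lin engG2.one :=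
  digP K 3 2 14 _ h (by decide) (by decide) (by decide +kernel)

/-- the engine for type F4 in characteristic two -/
noncomputable def engF4 : Eng := ⟨4, 48, 52, fN rowsF4, fP rowsF4, fA wtsF4 48, fA corsF4 48, lin2,
  0x8000000000000400000000000020000000000001000000000000080000000000004000000000000200000000000010000000000000800000000000040000000000002000000000000100000000000008000000000000400000000000020000000000001000000000000080000000000004000000000000200000000000010000000000000800000000000040000000000002000000000000100000000000008000000000000400000000000020000000000001000000000000080000000000004000000000000200000000000010000000000000800000000000040000000000002000000000000100000000000008000000000000400000000000020000000000001000000000000080000000000004000000000000200000000000010000000000000800000000000040000000000002000000000000100000000000008000000000000400000000000020000000000001⟩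

theorem engF4_ok : engF4.OK tabF4 := Eng.ok_of_chk tabF4 chk1F4 _ _ _

/-- the coding for type F4 -/
noncomputable def digF4 (K : Type*) [CommRing K] (h : (2 : K) = 0) :
    Dig K (chevF4.rank + chevF4.nroots) engF4.W engF4.lin engF4.one :=
  dig2 K h 52 _ (by decide +kernel)

end Cfsg.Agent.Chev
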