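/-
The fixed subgroups of the Weyl groups for the twisted types.
-/
import Cfsg.Agent.Chev.TwPoin
import Cfsg.Agent.Chev.TwE6
import Cfsg.Agent.Chev.TwD4
import Cfsg.Agent.Chev.TwF4
import Cfsg.Agent.Chev.TwG2
import Cfsg.Agent.Chev.WPoinF4
import Cfsg.Agent.Chev.WPoinG2

set_option autoImplicit false

namespace Cfsg.Agent.Chev

open Cfsg.Lie

/-- a table of words in the nodes of the diagram -/
def finWd (l : ℕ) (T : List (List ℕ)) (i : Fin l) : List (Fin l) :=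
  (T.getD i []).map fun k => ⟨k % l, Nat.mod_lt _ i.pos⟩

theorem RootSys.Sym.w0J_orb_eq {n l : ℕ} {Φ : RootSys (Fin l) (Fin n)} (S : Φ.Sym) {o : ℕ → ℕ}
    (ho : ∀ i j : Fin l, j ∈ S.orb i ↔ o j = o i) (wd : Fin l → List (Fin l))
    (h : ∀ i : Fin l, (∀ k ∈ wd i, o k = o i) ∧ ∀ j : Fin l, o j = o i →
      ¬ Φ.neg ((wd i).foldr Φ.refl (Φ.simple j)) < (wd i).foldr Φ.refl (Φ.simple j)) (i : Fin l) :
    Φ.w0J (S.orb i) = ((wd i).map Φ.s).prod :=
  Φ.w0J_eq_word (fun k hk => (ho i k).2 ((h i).1 k hk)) fun j hj => by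
    rw [Φ.isPos_iff_neg_lt]; exact (h i).2 j ((ho i j).1 hj)

theorem Lst.len_w0J {n l : ℕ} {Φ : RootSys (Fin l) (Fin n)} {J : Set (Fin l)} {c : List ℕ}
    (h : Lst Φ {r | Φ.IsPos r ∧ Φ.InJ J r} c) : Φ.len (Φ.w0J J) = c.length := by
  rw [← Φ.card_inv, ← List.toFinset_card_of_nodup h.nodup,
    ← Finset.card_image_of_injective _ Fin.val_injective]
  congr 1
  ext r
  simp only [Finset.mem_image, Φ.mem_inv_w0J, List.mem_toFinset]
  exact ⟨fun ⟨s, hs, e⟩ => e ▸ (h.mem s).2 hs, fun hr => ⟨⟨r, h.lt r hr⟩, (h.mem _).1 hr, rfl⟩⟩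

theorem Twist.Good.card_G1_poin {ι R : Type} [Fintype ι] [DecidableEq ι] [Fintype R] [LinearOrder R]
    {Φ : RootSys ι R} {F : Type*} [Field F] [Finite F] {G : Type*} [Group G] {P : St Φ F G} {T : Twist P}
    (hT : T.Good) {q : ℕ} {e : ι → ℕ} (he : ∀ i, Nat.card ↥(P.XJ (T.orb i) ⊓ T.Fix) = q ^ e i) {p : ℕ}
    (hp : ∀ c : Φ.W → ℕ, (∀ w ∈ T.W1, ∀ i, Φ.IsPos (Φ.act w (Φ.simple i)) →
      c (w * Φ.w0J (T.orb i)) = c w * q ^ e i) → T.poin1 c Set.univ = p * c 1) :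
    Nat.card T.G1 = Nat.card ↥(P.U ⊓ T.Fix) * Nat.card ↥(P.H ⊓ T.G1) * p := by
  have := hp (fun w => Nat.card ↥(P.X (Φ.inv w) ⊓ T.Fix)) fun w hw i hi => by
    rw [hT.card_X_inv_mul hw hi, he]
  have h1 : (Φ.inv 1 : Set R) = ∅ := by ext; simp
  simp only [h1, St0.X_empty, bot_inf_eq, Subgroup.card_bot, mul_one] at this
  rw [hT.card_G1, ← this]
  congr 1
  exact Finset.sum_congr (by ext w; simp [Φ.WJ_univ]) fun _ _ => rfl

/-- exponents -/
def eG2 (_ : Fin chevG2.rank) : ℕ := 3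

/-- words for the generators -/
def wdE6 : Fin chevE6.rank → List (Fin chevE6.rank) := finWd _ [[0, 5], [1], [2, 4], [3], [2, 4], [0, 5]]

theorem w0JE6 (i : Fin chevE6.rank) : rsE6.w0J (symE6.orb i) = ((wdE6 i).map rsE6.s).prod :=
  symE6.w0J_orb_eq mem_orbE6 _ (by decide +kernel) i

/-- the weighted count of the fixed subgroup -/
def polE6 {A : Type*} [CommSemiring A] (q : A) : A :=
  ([0, 1, 2, 4, 5, 6, 6, 7, 8, 9, 10, 10, 11, 11, 12, 13, 14, 15, 15, 16, 17, 19, 20, 21].map fun d => q ^ d).sum *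
    ([0, 2, 4, 5, 7, 9].map fun d => q ^ d).sum *
    ([0, 2, 3, 5].map fun d => q ^ d).sum *
    ([0, 1].map fun d => q ^ d).sum

section
variable {A : Type*} [CommSemiring A] {c : rsE6.W → A} {q : A}
  (hc : ∀ w ∈ symE6.W1, ∀ i, rsE6.IsPos (rsE6.act w (rsE6.simple i)) →
    c (w * rsE6.w0J (symE6.orb i)) = c w * q ^ eE6 i)
include hc

theorem poin1E6_0 : symE6.poin1 c {_j | true = true} =
    ([0, 1, 2, 4, 5, 6, 6, 7, 8, 9, 10, 10, 11, 11, 12, 13, 14, 15, 15, 16, 17, 19, 20, 21].map fun d => q ^ d).sum * symE6.poin1 c {j | Nat.testBit 61 j.1 = true} :=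
  symE6.poin1_list c q eE6 hc wdE6 w0JE6 (fun _ => true) (fun j => Nat.testBit 61 j.1)
    (fun x j => dec4 0x8888788878988797887979877898779878897888979797799787998979788898688969988878a887a778879798798977797997988879789887987899979789897988889878888898 (6 * x + j.1))
    (fun j x => dec8 0x1716151210140f13110e0d0c0b0a09060408030705020100171614151312110e0c100d0f0b08070a090605040203010017151613141011120f0d0e0a090c0b080506070304010200171614151312110e0c100d0f0b08070a0906050402030100161715141112130f100c0b0e0d090a0708040506030200011716151210140f13110e0d0c0b0a09060408030705020100 (24 * j.1 + x)) _ (by decide +kernel)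

theorem poin1E6_1 : symE6.poin1 c {j | Nat.testBit 61 j.1 = true} =
    ([0, 2, 4, 5, 7, 9].map fun d => q ^ d).sum * symE6.poin1 c {j | Nat.testBit 28 j.1 = true} :=
  symE6.poin1_list c q eE6 hc wdE6 w0JE6 (fun j => Nat.testBit 61 j.1) (fun j => Nat.testBit 28 j.1)
    (fun x j => dec4 0x7888a79787a98969a887a788798987988889 (6 * x + j.1))
    (fun j x => dec8 0x40503020001050304010200050402030100050304010200000000000000040503020001 (6 * j.1 + x)) _ (by decide +kernel)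

theorem poin1E6_2 : symE6.poin1 c {j | Nat.testBit 28 j.1 = true} =
    ([0, 2, 3, 5].map fun d => q ^ d).sum * symE6.poin1 c {j | Nat.testBit 8 j.1 = true} :=
  symE6.poin1_list c q eE6 hc wdE6 w0JE6 (fun j => Nat.testBit 28 j.1) (fun j => Nat.testBit 8 j.1)
    (fun x j => dec4 0xa787aa9969a997a789898988 (6 * x + j.1))
    (fun j x => dec8 0x203000103010200020300010000000000000000 (4 * j.1 + x)) _ (by decide +kernel)

theorem poin1E6_3 : symE6.poin1 c {j | Nat.testBit 8 j.1 = true} =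
    ([0, 1].map fun d => q ^ d).sum * symE6.poin1 c {_j | false = true} :=
  symE6.poin1_list c q eE6 hc wdE6 w0JE6 (fun j => Nat.testBit 8 j.1) (fun _ => false)
    (fun x j => dec4 0x897998889888 (6 * x + j.1))
    (fun j x => dec8 0x1000000000000 (2 * j.1 + x)) _ (by decide +kernel)

theorem poin1E6 : symE6.poin1 c Set.univ = polE6 q * c 1 := by
  rw [symE6.poin1_true, poin1E6_0 hc, poin1E6_1 hc, poin1E6_2 hc, poin1E6_3 hc, symE6.poin1_false, polE6]
  ring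

end

theorem card_W1E6 : Nat.card symE6.W1 = 1152 := by
  rw [symE6.card_W1, poin1E6 (q := 1) (by simp)]
  simp [polE6]

/-- words for the generators -/
def wdD4 : Fin chevD4.rank → List (Fin chevD4.rank) := finWd _ [[0, 2, 3], [1], [0, 2, 3], [0, 2, 3]]

theorem w0JD4 (i : Fin chevD4.rank) : rsD4.w0J (symD4.orb i) = ((wdD4 i).map rsD4.s).prod :=
  symD4.w0J_orb_eq mem_orbD4 _ (by decide +kernel) i

/-- the weighted count of the fixed subgroup -/
def polD4 {A : Type*} [CommSemiring A] (q : A) : A :=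
  ([0, 1, 4, 5, 8, 9].map fun d => q ^ d).sum *
    ([0, 3].map fun d => q ^ d).sum

section
variable {A : Type*} [CommSemiring A] {c : rsD4.W → A} {q : A}
  (hc : ∀ w ∈ symD4.W1, ∀ i, rsD4.IsPos (rsD4.act w (rsD4.simple i)) →
    c (w * rsD4.w0J (symD4.orb i)) = c w * q ^ eD4 i)
include hc

theorem poin1D4_0 : symD4.poin1 c {_j | true = true} =
    ([0, 1, 4, 5, 8, 9].map fun d => q ^ d).sum * symD4.poin1 c {j | Nat.testBit 13 j.1 = true} :=
  symD4.poin1_list c q eD4 hc wdD4 w0JD4 (fun _ => true) (fun j => Nat.testBit 13 j.1)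
    (fun x j => dec4 0x88787797996977a799798898 (4 * x + j.1))
    (fun j x => dec8 0x50304010200050304010200040502030001050304010200 (6 * j.1 + x)) _ (by decide +kernel)

theorem poin1D4_1 : symD4.poin1 c {j | Nat.testBit 13 j.1 = true} =
    ([0, 3].map fun d => q ^ d).sum * symD4.poin1 c {_j | false = true} :=
  symD4.poin1_list c q eD4 hc wdD4 w0JD4 (fun j => Nat.testBit 13 j.1) (fun _ => false)
    (fun x j => dec4 0x77b79989 (4 * x + j.1))
    (fun j x => dec8 0x1000100000001 (2 * j.1 + x)) _ (by decide +kernel)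

theorem poin1D4 : symD4.poin1 c Set.univ = polD4 q * c 1 := by
  rw [symD4.poin1_true, poin1D4_0 hc, poin1D4_1 hc, symD4.poin1_false, polD4]
  ring

end

theorem card_W1D4 : Nat.card symD4.W1 = 12 := by
  rw [symD4.card_W1, poin1D4 (q := 1) (by simp)]
  simp [polD4]

/-- words for the generators -/
def wdF4 : Fin chevF4.rank → List (Fin chevF4.rank) := finWd _ [[0, 3], [1, 2, 1, 2], [1, 2, 1, 2], [0, 3]]

theorem w0JF4 (i : Fin chevF4.rank) : rsF4.w0J (symF4.orb i) = ((wdF4 i).map rsF4.s).prod :=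
  symF4.w0J_orb_eq mem_orbF4 _ (by decide +kernel) i

/-- the weighted count of the fixed subgroup -/
def polF4 {A : Type*} [CommSemiring A] (q : A) : A :=
  ([0, 1, 3, 4, 6, 7, 9, 10].map fun d => q ^ d).sum *
    ([0, 2].map fun d => q ^ d).sum

section
variable {A : Type*} [CommSemiring A] {c : rsF4.W → A} {q : A}
  (hc : ∀ w ∈ symF4.W1, ∀ i, rsF4.IsPos (rsF4.act w (rsF4.simple i)) →
    c (w * rsF4.w0J (symF4.orb i)) = c w * q ^ eF4 i)
include hc

theorem poin1F4_0 : symF4.poin1 c {_j | true = true} =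
    ([0, 1, 3, 4, 6, 7, 9, 10].map fun d => q ^ d).sum * symF4.poin1 c {j | Nat.testBit 6 j.1 = true} :=
  symF4.poin1_list c q eF4 hc wdF4 w0JF4 (fun _ => true) (fun j => Nat.testBit 6 j.1)
    (fun x j => dec4 0x788797796995a76b69a5a77b79979889 (4 * x + j.1))
    (fun j x => dec8 0x607040502030001070506030401020007050603040102000607040502030001 (8 * j.1 + x)) _ (by decide +kernel)

theorem poin1F4_1 : symF4.poin1 c {j | Nat.testBit 6 j.1 = true} =
    ([0, 2].map fun d => q ^ d).sum * symF4.poin1 c {_j | false = true} :=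
  symF4.poin1_list c q eF4 hc wdF4 w0JF4 (fun j => Nat.testBit 6 j.1) (fun _ => false)
    (fun x j => dec4 0xb77c8998 (4 * x + j.1))
    (fun j x => dec8 0x100010000 (2 * j.1 + x)) _ (by decide +kernel)

theorem poin1F4 : symF4.poin1 c Set.univ = polF4 q * c 1 := by
  rw [symF4.poin1_true, poin1F4_0 hc, poin1F4_1 hc, symF4.poin1_false, polF4]
  ring

end

theorem card_W1F4 : Nat.card symF4.W1 = 16 := by
  rw [symF4.card_W1, poin1F4 (q := 1) (by simp)]
  simp [polF4]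

/-- words for the generators -/
def wdG2 : Fin chevG2.rank → List (Fin chevG2.rank) := finWd _ [[0, 1, 0, 1, 0, 1], [0, 1, 0, 1, 0, 1]]

theorem w0JG2 (i : Fin chevG2.rank) : rsG2.w0J (symG2.orb i) = ((wdG2 i).map rsG2.s).prod :=
  symG2.w0J_orb_eq (o := fun _ => 0) mem_orbG2 _ (by decide +kernel) i

/-- the weighted count of the fixed subgroup -/
def polG2 {A : Type*} [CommSemiring A] (q : A) : A :=
  ([0, 3].map fun d => q ^ d).sum

section
variable {A : Type*} [CommSemiring A] {c : rsG2.W → A} {q : A}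
  (hc : ∀ w ∈ symG2.W1, ∀ i, rsG2.IsPos (rsG2.act w (rsG2.simple i)) →
    c (w * rsG2.w0J (symG2.orb i)) = c w * q ^ eG2 i)
include hc

theorem poin1G2_0 : symG2.poin1 c {_j | true = true} =
    ([0, 3].map fun d => q ^ d).sum * symG2.poin1 c {_j | false = true} :=
  symG2.poin1_list c q eG2 hc wdG2 w0JG2 (fun _ => true) (fun _ => false)
    (fun x j => dec4 0x7799 (2 * x + j.1))
    (fun j x => dec8 0x10001 (2 * j.1 + x)) _ (by decide +kernel)

theorem poin1G2 : symG2.poin1 c Set.univ = polG2 q * c 1 := by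
  rw [symG2.poin1_true, poin1G2_0 hc, symG2.poin1_false, polG2]


end

theorem card_W1G2 : Nat.card symG2.W1 = 2 := by
  rw [symG2.card_W1, poin1G2 (q := 1) (by simp)]
  simp [polG2]

theorem polE6_eq {A : Type*} [CommRing A] (q : A) : (q - 1) ^ 4 * (q + 1) ^ 2 * polE6 q =
    (q ^ 2 - 1) * (q ^ 5 + 1) * (q ^ 6 - 1) * (q ^ 8 - 1) * (q ^ 9 + 1) * (q ^ 12 - 1) := by
  simp only [polE6, List.map_cons, List.map_nil, List.sum_cons, List.sum_nil]
  ring

theorem polD4_eq {A : Type*} [CommRing A] (q : A) : (q - 1) ^ 2 * (q ^ 2 + q + 1) * polD4 q =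
    (q ^ 2 - 1) * (q ^ 6 - 1) * (q ^ 8 + q ^ 4 + 1) := by
  simp only [polD4, List.map_cons, List.map_nil, List.sum_cons, List.sum_nil]
  ring

theorem polF4_eq {A : Type*} [CommRing A] (q : A) : (q - 1) ^ 2 * polF4 q =
    (q - 1) * (q ^ 3 + 1) * (q ^ 4 - 1) * (q ^ 6 + 1) := by
  simp only [polF4, List.map_cons, List.map_nil, List.sum_cons, List.sum_nil]
  ring

theorem polG2_eq {A : Type*} [CommSemiring A] (q : A) : polG2 q = q ^ 3 + 1 := by
  simp only [polG2, List.map_cons, List.map_nil, List.sum_cons, List.sum_nil]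
  ring

theorem W1E6_equiv : Nonempty (symE6.W1 ≃* CoxeterMatrix.F₄.Group) :=
  symE6.equiv_coxeter CoxeterMatrix.F₄ ![ndE6 1, ndE6 3, ndE6 2, ndE6 0]
    (by simp only [mem_orbE6]; decide +kernel)
    (fun b b' => symE6.s1_pow_eq_one wdE6 w0JE6 (by revert b b'; decide +kernel))
    (card_WF4.trans card_W1E6.symm)

theorem W1D4_equiv : Nonempty (symD4.W1 ≃* CoxeterMatrix.G₂.Group) :=
  symD4.equiv_coxeter CoxeterMatrix.G₂ ![ndD4 0, ndD4 1]
    (by simp only [mem_orbD4]; decide +kernel)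
    (fun b b' => symD4.s1_pow_eq_one wdD4 w0JD4 (by revert b b'; decide +kernel))
    (card_WG2.trans card_W1D4.symm)

theorem W1F4_equiv : Nonempty (symF4.W1 ≃* DihedralGroup 8) := by
  obtain ⟨f, h0, h1⟩ := exists_dihedral_hom (symF4.s1_mul_s1 (ndF4 0)) (symF4.s1_mul_s1 (ndF4 1))
    (symF4.s1_pow_eq_one wdF4 w0JF4 (m := 8) (by decide +kernel))
  refine symF4.equiv_of_hom f (fun i => ?_) (by rw [card_W1F4, DihedralGroup.nat_card])
  rcases orbF4_cases i with h | h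
  · exact ⟨_, h0.trans (Subtype.ext (by simp [h.1]))⟩
  · exact ⟨_, h1.trans (Subtype.ext (by simp [h.1]))⟩

theorem W1G2_equiv : Nonempty (symG2.W1 ≃* Multiplicative (ZMod 2)) :=
  have : Fact (Nat.Prime 2) := ⟨Nat.prime_two⟩
  ⟨mulEquivOfPrimeCardEq (p := 2) card_W1G2 (by simp)⟩

theorem lenE6 (i : Fin chevE6.rank) : rsE6.len (rsE6.w0J (symE6.orb i)) = eE6 i := by
  rcases orbE6_cases i with h | h | h | h <;> rw [h.1, h.2]
  exacts [lstE6p0.len_w0J, lstE6p1.len_w0J, lstE6p2.len_w0J, lstE6p3.len_w0J]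

theorem lenD4 (i : Fin chevD4.rank) : rsD4.len (rsD4.w0J (symD4.orb i)) = eD4 i := by
  rcases orbD4_cases i with h | h <;> rw [h.1, h.2]
  exacts [lstD4p0.len_w0J, lstD4p1.len_w0J]

theorem lenF4 (i : Fin chevF4.rank) : rsF4.len (rsF4.w0J (symF4.orb i)) = eF4 i * 2 := by
  rcases orbF4_cases i with h | h <;> rw [h.1, h.2]
  exacts [lstF4p0.len_w0J, lstF4p1.len_w0J]

section
variable {K : Type*} [Field K] [Fintype K]

theorem cardUE6 {ψ : K ≃+* K} (hψ : ∀ t, ψ (ψ t) = t) {q : ℕ} (hq : ∀ t, ψ t = t ^ q) (hq1 : 1 ≤ q)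
    (hK : Fintype.card K = q ^ 2) : Nat.card ↥((PE6 K).U ⊓ (twE6 ψ).Fix) = q ^ 36 := by
  have := (goodE6 hψ).card_U1_pow (a := 1) (q := q) fun i => by
    rw [cardXE6 hψ hq hq1 hK, pow_one, twE6_sym, lenE6]
  rwa [pow_one, Fintype.card_fin] at this

theorem cardUD4 {ψ : K ≃+* K} (hψ : ∀ t, ψ (ψ (ψ t)) = t) {q : ℕ} (hq : ∀ t, ψ t = t ^ q) (hq1 : 1 ≤ q)
    (hK : Fintype.card K = q ^ 3) : Nat.card ↥((PD4 K).U ⊓ (twD4 ψ).Fix) = q ^ 12 := by
  have := (goodD4 hψ).card_U1_pow (a := 1) (q := q) fun i => by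
    rw [cardXD4 hψ hq hq1 hK, pow_one, twD4_sym, lenD4]
  rwa [pow_one, Fintype.card_fin] at this

theorem cardUF4 {e : ℕ} (Θ : TwTheta K 2 e) :
    Nat.card ↥((PF4 K).U ⊓ (twF4 Θ).Fix) = Fintype.card K ^ 12 := by
  have := (goodF4 Θ).card_U1_pow (a := 2) (q := Fintype.card K) fun i => by
    rw [cardXF4, twF4_sym, lenF4, pow_mul]
  rw [Fintype.card_fin] at this
  exact Nat.pow_left_injective two_ne_zero (this.trans (pow_mul _ 12 2))

theorem cardUG2 {e : ℕ} (Θ : TwTheta K 3 e) :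
    Nat.card ↥((PG2 K).U ⊓ (twG2 Θ).Fix) = Fintype.card K ^ 3 := by
  rw [← XJ_univ_G2, cardXG2]

theorem cardGE6 {ψ : K ≃+* K} (hψ : ∀ t, ψ (ψ t) = t) {q : ℕ} (hq : ∀ t, ψ t = t ^ q) (hq1 : 1 ≤ q)
    (hK : Fintype.card K = q ^ 2) :
    Nat.card (twE6 ψ).G1 = q ^ 36 * Nat.card ↥((PE6 K).H ⊓ (twE6 ψ).G1) * polE6 q := by
  rw [(goodE6 hψ).card_G1_poin (cardXE6 hψ hq hq1 hK) fun _ hc => poin1E6 hc, cardUE6 hψ hq hq1 hK]

theorem cardGD4 {ψ : K ≃+* K} (hψ : ∀ t, ψ (ψ (ψ t)) = t) {q : ℕ} (hq : ∀ t, ψ t = t ^ q) (hq1 : 1 ≤ q)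
    (hK : Fintype.card K = q ^ 3) :
    Nat.card (twD4 ψ).G1 = q ^ 12 * Nat.card ↥((PD4 K).H ⊓ (twD4 ψ).G1) * polD4 q := by
  rw [(goodD4 hψ).card_G1_poin (cardXD4 hψ hq hq1 hK) fun _ hc => poin1D4 hc, cardUD4 hψ hq hq1 hK]

theorem cardGF4 {e : ℕ} (Θ : TwTheta K 2 e) : Nat.card (twF4 Θ).G1 =
    Fintype.card K ^ 12 * Nat.card ↥((PF4 K).H ⊓ (twF4 Θ).G1) * polF4 (Fintype.card K) := by
  rw [(goodF4 Θ).card_G1_poin (cardXF4 Θ) fun _ hc => poin1F4 hc, cardUF4]

theorem cardGG2 {e : ℕ} (Θ : TwTheta K 3 e) : Nat.card (twG2 Θ).G1 =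
    Fintype.card K ^ 3 * Nat.card ↥((PG2 K).H ⊓ (twG2 Θ).G1) * polG2 (Fintype.card K) := by
  rw [(goodG2 Θ).card_G1_poin (e := eG2) (fun i => by rw [twG2_sym, orbG2_univ, cardXG2]; rfl)
    fun _ hc => poin1G2 hc, cardUG2]

end

end Cfsg.Agent.Chev
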