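/-
The Poincare polynomial of the Weyl group of type E7.
-/
import Cfsg.Agent.Chev.WPoin
import Cfsg.Agent.Chev.RootE7

set_option autoImplicit false

namespace Cfsg.Agent.Chev

open Cfsg.Lie

theorem poinE7_step0 {S : Type*} [CommSemiring S] (q : S) :
    rsE7.poin {j | j.1 ∈ (List.range chevE7.rank : List ℕ)} q = evalP [1, 1, 1, 1, 1, 2, 2, 2, 2, 3, 3, 3, 3, 3, 3, 3, 3, 3, 3, 2, 2, 2, 2, 1, 1, 1, 1, 1] q * rsE7.poin {j | j.1 ∈ ([0, 1, 2, 3, 4, 5] : List ℕ)} q :=
  poin_step_list rsE7 encE7.A (fun _ _ => rfl) _ _ [40945354752, 32623855617, 36398729218, 36634658819, 36649408516, 36650448901, 36650326277, 36651366662, 36650391302, 36651431687, 36666116359, 36666181384, 36902045960, 36667099145, 36902110985, 40676919561, 36903028746, 40676984586, 32355420426, 36917778443, 40677902347, 32355485451, 36918818828, 40692652044, 32356403212, 40693692429, 40928581645, 32371152909, 40929622030, 32372193294, 32607082510, 40944371727, 32608122895, 36381956111, 40945289488, 32622872592, 36382996496, 40945354513,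 32623790353, 36397746193, 32623855378, 36398663954, 36633675794, 36398728979, 36634593555, 36634658580, 36649343252, 36649408277, 36650383637, 36650448662, 36650326038, 36651366423, 36666116120, 36902045721, 40676919322, 32355420187] _ 40945354752 (by decide +kernel) q

theorem poinE7_step1 {S : Type*} [CommSemiring S] (q : S) :
    rsE7.poin {j | j.1 ∈ ([0, 1, 2, 3, 4, 5] : List ℕ)} q = evalP [1, 1, 1, 1, 2, 2, 2, 2, 3, 2, 2, 2, 2, 1, 1, 1, 1] q * rsE7.poin {j | j.1 ∈ ([1, 2, 3, 4, 5] : List ℕ)} q :=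
  poin_step_list rsE7 encE7.A (fun _ _ => rfl) _ _ [36650387712, 36650452737, 36651370498, 36666120195, 36667160580, 36902049796, 36903090181, 40676923397, 36917839878, 40677963782, 36918757639, 40692713479, 36918822664, 40693631240, 40928643080, 40693696265, 40929560841, 40929625866, 40944310538, 40944375563, 40945350923, 40945415948, 40945293324, 40946333709, 40961083406, 41197013007, 44971886608] _ 36650387712 (by decide +kernel) q

theorem poinE7_step2 {S : Type*} [CommSemiring S] (q : S) :
    rsE7.poin {j | j.1 ∈ ([1, 2, 3, 4, 5] : List ℕ)} q = evalP [1, 1, 1, 1, 2, 1, 1, 1, 1] q * rsE7.poin {j | j.1 ∈ ([1, 2, 3, 4] : List ℕ)} q :=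
  poin_step_list rsE7 encE7.A (fun _ _ => rfl) _ _ [36918822912, 40693696513, 40929626114, 40944375811, 40945416196, 40945293572, 40946333957, 40961083654, 41197013255, 44971886856] _ 36918822912 (by decide +kernel) q

theorem poinE7_step3 {S : Type*} [CommSemiring S] (q : S) :
    rsE7.poin {j | j.1 ∈ ([1, 2, 3, 4] : List ℕ)} q = evalP [1, 1, 1, 2, 1, 1, 1] q * rsE7.poin {j | j.1 ∈ ([2, 3, 4] : List ℕ)} q :=
  poin_step_list rsE7 encE7.A (fun _ _ => rfl) _ _ [36650391552, 36651431937, 36666181634, 36667099395, 36902111235, 36903028996, 36917778693, 36918819078] _ 36650391552 (by decide +kernel) q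

theorem poinE7_step4 {S : Type*} [CommSemiring S] (q : S) :
    rsE7.poin {j | j.1 ∈ ([2, 3, 4] : List ℕ)} q = evalP [1, 1, 1, 1] q * rsE7.poin {j | j.1 ∈ ([3, 4] : List ℕ)} q :=
  poin_step_list rsE7 encE7.A (fun _ _ => rfl) _ _ [36650452992, 36651370753, 36666120450, 36902050051] _ 36650452992 (by decide +kernel) q

theorem poinE7_step5 {S : Type*} [CommSemiring S] (q : S) :
    rsE7.poin {j | j.1 ∈ ([3, 4] : List ℕ)} q = evalP [1, 1, 1] q * rsE7.poin {j | j.1 ∈ ([4] : List ℕ)} q :=
  poin_step_list rsE7 encE7.A (fun _ _ => rfl) _ _ [36651436032, 36666185729, 36902115330] _ 36651436032 (by decide +kernel) q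

theorem poinE7_step6 {S : Type*} [CommSemiring S] (q : S) :
    rsE7.poin {j | j.1 ∈ ([4] : List ℕ)} q = evalP [1, 1] q * rsE7.poin {j | j.1 ∈ ([] : List ℕ)} q :=
  poin_step_list rsE7 encE7.A (fun _ _ => rfl) _ _ [36667164672, 36903094273] _ 36667164672 (by decide +kernel) q

theorem poinE7 {S : Type*} [CommRing S] (q : S) :
    (q - 1) ^ 7 * rsE7.poin Set.univ q = (q ^ 2 - 1) * (q ^ 6 - 1) * (q ^ 8 - 1) * (q ^ 10 - 1) * (q ^ 12 - 1) * (q ^ 14 - 1) * (q ^ 18 - 1) := by
  rw [poin_univ_list, poinE7_step0, poinE7_step1, poinE7_step2, poinE7_step3, poinE7_step4, poinE7_step5, poinE7_step6, poin_nil_list]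
  simp only [evalP]
  push_cast
  ring

theorem card_WE7 : Nat.card rsE7.W = 2903040 := by
  rw [RootSys.card_W, poin_univ_list, poinE7_step0, poinE7_step1, poinE7_step2, poinE7_step3, poinE7_step4, poinE7_step5, poinE7_step6, poin_nil_list]
  decide +kernel

end Cfsg.Agent.Chev
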